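import Cfsg.Agent.Lib.CharDegree.KgvReal.Span
import Cfsg.Agent.Lib.Char.Monomial
import Cfsg.Agent.Lib.Char.DegreeCenter
import Mathlib.GroupTheory.Complement
import Mathlib.GroupTheory.GroupAction.CardCommute

/-!
# The class number bound from a weight function on a stabilizer

A combination of characters of the stabilizer congruent to zero off the identity and with squared norms at
most the commutator index bounds the class number of the semidirect product.
-/

set_option autoImplicit false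

namespace CfsgLib.KgvReal

open Cfsg CfsgLib.Char CfsgLib.CharDegree CfsgLib.CharIntegral
open scoped ComplexConjugate

variable {X : Type*} [Group X] [Fintype X]

/-- A character translated by a centralised element is a combination of characters. -/
theorem vir_translate {χ : X → ℂ} (hχ : IsCharacter X χ) (H : Subgroup X) [Fintype H] (v : X)
    (hc : ∀ h ∈ H, h * v = v * h) : Vir fun h : H => χ (h * v) := by
  classical
  set Z := Subgroup.zpowers v
  have hcomm : ∀ (h : H) (z : Z), (h : X) * z = z * h := fun h z => by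
    obtain ⟨j, hj⟩ := Subgroup.mem_zpowers_iff.1 z.2
    rw [← hj]
    exact ((show Commute (h : X) v from hc h h.2).zpow_right j).eq
  let Φ : H × Z →* X :=
    { toFun := fun x => (x.1 : X) * (x.2 : X)
      map_one' := by simp
      map_mul' := fun x y => by
        show ((x.1 * y.1 : H) : X) * ((x.2 * y.2 : Z) : X) = _
        rw [Subgroup.coe_mul, Subgroup.coe_mul]
        calc (x.1 : X) * y.1 * (x.2 * y.2) = x.1 * (y.1 * x.2) * y.2 := by simp only [mul_assoc]
          _ = x.1 * (x.2 * y.1) * y.2 := by rw [hcomm]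
          _ = _ := by simp only [mul_assoc] }
  haveI := Fintype.ofFinite (H × Z)
  haveI := Fintype.ofFinite (IrrCharacter (H × Z))
  obtain ⟨m, hm⟩ := IsChar.exists_sum (IsChar.comp Φ hχ)
  set g₀ : H × Z := (1, ⟨v, Subgroup.mem_zpowers v⟩) with hg₀
  have hcen : g₀ ∈ Subgroup.center (H × Z) := Subgroup.mem_center_iff.2 fun g => by
    refine Prod.ext (by simp [hg₀]) (Subtype.ext ?_)
    obtain ⟨j, hj⟩ := Subgroup.mem_zpowers_iff.1 g.2.2
    show (g.2 : X) * v = v * g.2
    rw [← hj]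
    exact (Commute.zpow_self v j).eq
  have hsc : ∀ μ : IrrCharacter (H × Z), ∃ t : ℂ, IsIntegral ℤ t ∧
      ∀ x, (μ : H × Z → ℂ) (g₀ * x) = t * (μ : H × Z → ℂ) x := by
    intro μ
    obtain ⟨k, π, hπ, hπc, hk⟩ := CharDegree.exists_rep μ
    obtain ⟨t, ht⟩ := exists_scalar_of_mem_center π hcen
    have h1 : ∀ x, (μ : H × Z → ℂ) (g₀ * x) = t * (μ : H × Z → ℂ) x := fun x => by
      rw [← hπc]; exact character_smul_of_scalar π ht x
    refine ⟨t, ?_, h1⟩
    have hpow : ∀ n : ℕ, (μ : H × Z → ℂ) (g₀ ^ n) = t ^ n * (μ : H × Z → ℂ) 1 := fun n => by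
      induction n with
      | zero => simp
      | succ n ih => rw [pow_succ', h1, ih]; ring
    refine IsIntegral.of_pow (orderOf_pos g₀) ?_
    have h2 := hpow (orderOf g₀)
    rw [pow_orderOf_eq_one] at h2
    rw [mul_right_cancel₀ (IsIrr.apply_one_ne_zero μ.2) (h2.symm.trans (one_mul _).symm)]
    exact isIntegral_one
  choose t ht hte using hsc
  convert Vir.sum (Finset.univ : Finset (IrrCharacter (H × Z))) (fun μ _ =>
    (vir_char (IsChar.comp (MonoidHom.inl H Z) (IsIrr.isCharacter μ.2))).smul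
      ((isIntegral_algebraMap (R := ℤ) (A := ℂ) (x := (m μ : ℤ))).mul (ht μ))) using 1
  funext h
  have e := congrFun hm (g₀ * (h, 1))
  simp only [Finset.sum_apply, Pi.smul_apply, smul_eq_mul, hte] at e
  rw [show χ ((h : X) * v) = χ (Φ (g₀ * (h, 1))) by
    show _ = χ (((1 * h : H) : X) * ((⟨v, Subgroup.mem_zpowers v⟩ * 1 : Z) : X))
    rw [one_mul, mul_one]]
  refine e.trans (Finset.sum_congr rfl fun μ _ => ?_)
  simp only [eq_intCast, Int.cast_natCast]
  show _ = (m μ : ℂ) * t μ * (μ : H × Z → ℂ) (h, 1)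
  ring

/-- The bound. -/
theorem card_conjClasses_le (p : ℕ) [Fact p.Prime] (V : Subgroup X) [V.Normal]
    (hVexp : ∀ x ∈ V, x ^ p = 1) (hidx : ¬ p ∣ V.index) (hVc : ∀ a ∈ V, ∀ b ∈ V, a * b = b * a)
    (G : Subgroup X) (hGV : Subgroup.IsComplement' V G) (v : X) (hv : v ∈ V)
    (H : Subgroup X) (hH : H = G ⊓ Subgroup.centralizer ({v} : Set X)) [Fintype H]
    {M : ℕ} [NeZero M] (hM : Nat.card X ∣ M) (θ : H → ℂ) (hθ : Vir θ) (hθ1 : θ 1 = 1)
    (hθm : ∀ h, θ h ∈ cyc M) (w : H → ℕ) (hθw : ∀ h, θ h * conj (θ h) = (w h : ℂ))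
    (hsmall : ∀ h, h ≠ 1 → CharAction.CongMod p (θ h ^ 2) 0)
    (hw : ∀ h : H, w h * Nat.card ↥(V ⊓ Subgroup.centralizer ({(h : X)} : Set X)) ≤ Nat.card V) :
    Nat.card (ConjClasses X) ≤ Nat.card V := by
  classical
  have hp : p.Prime := Fact.out
  haveI := Fintype.ofFinite (IrrCharacter X)
  haveI := Fintype.ofFinite (IrrCharacter H)
  have hhv : ∀ h ∈ H, h * v = v * h := fun h hh =>
    Subgroup.mem_centralizer_singleton_iff.1 (hH ▸ hh : h ∈ G ⊓ Subgroup.centralizer ({v} : Set X)).2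
  have hGcard : Nat.card G = V.index := by
    rw [Subgroup.index_eq_card]; exact (Nat.card_congr hGV.symm.QuotientMulEquiv.toEquiv).symm
  have hHd : Nat.card H ∣ V.index := hGcard ▸ Subgroup.card_dvd_of_le (hH ▸ inf_le_left)
  have hHcop : (Nat.card H).Coprime p :=
    (((Nat.Prime.coprime_iff_not_dvd hp).2 hidx).symm).coprime_dvd_left hHd
  have hHM : Nat.card H ∣ M := (Subgroup.card_subgroup_dvd_card H).trans hM
  -- the coefficients
  set b : IrrCharacter X → IrrCharacter H → ℂ := fun χ φ =>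
    classInner (fun h : H => θ h * (χ : X → ℂ) (h * v)) (φ : H → ℂ) with hb
  have hbi : ∀ χ φ, IsIntegral ℤ (b χ φ) := fun χ φ =>
    (hθ.mul (vir_translate (IsIrr.isCharacter χ.2) H v hhv)).2 φ
  have hbm : ∀ χ φ, b χ φ ∈ cyc M := fun χ φ => by
    simp only [hb, classInner]
    exact mul_mem (inv_mem (natCast_mem _ _)) (sum_mem fun h _ => mul_mem
      (mul_mem (hθm h) (char_mem (IsIrr.isCharacter χ.2) hM _))
      (conj_mem (char_mem (IsIrr.isCharacter φ.2) hHM _)))
  have hb0 : ∀ χ φ, b χ φ ≠ 0 := by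
    intro χ φ h0
    simp only [hb, classInner, mul_eq_zero, inv_eq_zero, Nat.cast_eq_zero, Nat.card_pos.ne', false_or] at h0
    rw [← Finset.add_sum_erase _ _ (Finset.mem_univ (1 : H)), add_eq_zero_iff_eq_neg] at h0
    set f : H → ℂ := fun h => θ h * (χ : X → ℂ) (h * v) * conj ((φ : H → ℂ) h) with hf
    have hfi : ∀ h, IsIntegral ℤ (f h) := fun h => ((hθ.apply_isIntegral h).mul
      (IsChar.isIntegral (IsIrr.isCharacter χ.2) _)).mul
      (by rw [← IsChar.map_inv (IsIrr.isCharacter φ.2)]; exact IsChar.isIntegral (IsIrr.isCharacter φ.2) _)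
    have hcong : CharAction.CongMod p ((∑ h ∈ Finset.univ.erase (1 : H), f h) ^ p) 0 := by
      have h1 := CharAction.congMod_pow_sum (p := p) 1 (Finset.univ.erase (1 : H)) f fun h _ => hfi h
      rw [pow_one] at h1
      refine h1.trans ?_
      have h2 := CharAction.CongMod.sum (p := p) (Finset.univ.erase (1 : H)) (f := fun h => f h ^ p)
        (g := fun _ => 0) fun h hh => ?_
      · simpa using h2
      · obtain ⟨k, hk⟩ : ∃ k, p = 2 + k := ⟨p - 2, by have := hp.two_le; omega⟩
        have e : f h ^ p = θ h ^ 2 *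
            (θ h ^ k * ((χ : X → ℂ) (h * v) * conj ((φ : H → ℂ) h)) ^ (2 + k)) := by
          rw [hk, hf]; ring
        show CharAction.CongMod p (f h ^ p) 0
        rw [e]
        refine (hsmall h (Finset.ne_of_mem_erase hh)).mul_right ?_ |>.trans (.of_eq (zero_mul _))
        refine ((hθ.apply_isIntegral h).pow k).mul (IsIntegral.pow ?_ _)
        exact (IsChar.isIntegral (IsIrr.isCharacter χ.2) _).mul
          (by rw [← IsChar.map_inv (IsIrr.isCharacter φ.2)]; exact IsChar.isIntegral (IsIrr.isCharacter φ.2) _)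
    have hφ1 : conj ((φ : H → ℂ) 1) = (charDegree (φ : H → ℂ) : ℂ) := by
      rw [← cast_irrDegree, Complex.conj_natCast]
    have h3 : CharAction.CongMod p
        ((((χ : X → ℂ) v) * (charDegree (φ : H → ℂ) : ℂ)) ^ p) 0 := by
      have e : ((χ : X → ℂ) v) * (charDegree (φ : H → ℂ) : ℂ) = f 1 := by
        simp only [hf, hθ1, OneMemClass.coe_one, one_mul, hφ1]
      rw [e, show f 1 = -∑ h ∈ Finset.univ.erase (1 : H), f h from h0, neg_pow]
      exact (hcong.mul_left (IsIntegral.pow isIntegral_one.neg p)).trans (.of_eq (mul_zero _))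
    have h4 := CharAction.congMod_char_pow (p := p) (IsIrr.isCharacter χ.2) v 1
    rw [pow_one, hVexp v hv, ← cast_irrDegree] at h4
    rw [mul_pow] at h3
    have hdi : IsIntegral ℤ (charDegree (φ : H → ℂ) : ℂ) := by
      exact_mod_cast isIntegral_algebraMap (R := ℤ) (A := ℂ) (x := (charDegree (φ : H → ℂ) : ℤ))
    have h5 := ((h4.mul_right (IsIntegral.pow hdi p)).symm).trans h3
    rw [← Nat.cast_pow, ← Nat.cast_mul] at h5
    rcases (Nat.Prime.dvd_mul hp).1 (CharAction.CongMod.dvd_of_natCast hp.ne_zero h5) with h6 | h6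
    · obtain ⟨d, ρ, hρ, -, hd⟩ := exists_rep χ
      have h7 := CfsgLib.Clifford.finrank_dvd_index d ρ V hVc
      rw [Module.finrank_fin_fun, hd] at h7
      exact hidx (h6.trans h7)
    · exact hp.ne_one (Nat.eq_one_of_dvd_coprimes hHcop
        ((hp.dvd_of_dvd_pow h6).trans (charDegree_dvd_card φ)) dvd_rfl)
  -- Parseval, in all embeddings
  set n := Fintype.card (cyc M →ₐ[ℚ] ℂ) with hn
  have hnpos : 0 < n := Fintype.card_pos_iff.mpr ⟨(cyc M).val⟩
  choose kσ hkc hke using fun σ : cyc M →ₐ[ℚ] ℂ => exists_exp σ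
  have hpar : ∀ (χ : IrrCharacter X) (σ : cyc M →ₐ[ℚ] ℂ), (∑ φ, ‖σ ⟨b χ φ, hbm χ φ⟩‖ ^ 2 : ℝ) =
      (Nat.card H : ℝ)⁻¹ * ∑ h : H, (w h : ℝ) * ‖(χ : X → ℂ) ((h * v) ^ kσ σ)‖ ^ 2 := by
    intro χ σ
    set α : H → ℂ := fun h => θ h * (χ : X → ℂ) (h * v) with hα
    have hαc : IsClassFunction H α := (hθ.mul (vir_translate (IsIrr.isCharacter χ.2) H v hhv)).1
    have e : ∑ φ : IrrCharacter H, b χ φ * conj (b χ φ) =
        (Nat.card H : ℂ)⁻¹ * ∑ h : H, (w h : ℂ) *
          ((χ : X → ℂ) (h * v) * conj ((χ : X → ℂ) (h * v))) := by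
      have h1 : classInner α α = ∑ φ : IrrCharacter H, b χ φ * conj (b χ φ) := by
        conv_lhs => arg 1; rw [classFunction_eq_sum hαc]
        rw [classInner_sum_left]
        refine Finset.sum_congr rfl fun φ _ => ?_
        rw [classInner_smul_left, hb, classInner_conj_symm]
      rw [← h1, classInner]
      congr 1
      refine Finset.sum_congr rfl fun h _ => ?_
      simp only [hα, map_mul]
      rw [← hθw]
      ring
    have hK : ∑ φ : IrrCharacter H, (⟨b χ φ, hbm χ φ⟩ : cyc M) * ⟨conj (b χ φ), conj_mem (hbm χ φ)⟩ =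
        (Nat.card H : cyc M)⁻¹ * ∑ h : H, (w h : cyc M) *
          ((⟨(χ : X → ℂ) (h * v), char_mem (IsIrr.isCharacter χ.2) hM _⟩ : cyc M) *
            ⟨conj ((χ : X → ℂ) (h * v)), conj_mem (char_mem (IsIrr.isCharacter χ.2) hM _)⟩) := by
      refine Subtype.ext ?_
      simpa using e
    have h2 := congrArg σ hK
    have hc1 : ∀ φ : IrrCharacter H, σ ⟨conj (b χ φ), conj_mem (hbm χ φ)⟩ = conj (σ ⟨b χ φ, hbm χ φ⟩) :=
      fun φ => apply_conj σ (hbm χ φ)
    have hc2 : ∀ h : H, σ ⟨conj ((χ : X → ℂ) (h * v)), conj_mem (char_mem (IsIrr.isCharacter χ.2) hM _)⟩ =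
        conj ((χ : X → ℂ) ((h * v) ^ kσ σ)) := fun h => by
      rw [apply_conj σ (char_mem (IsIrr.isCharacter χ.2) hM _), apply_char σ (hke σ) (IsIrr.isCharacter χ.2) hM]
    simp only [map_sum, map_mul, map_inv₀, map_natCast, hc1, hc2,
      apply_char σ (hke σ) (IsIrr.isCharacter χ.2) hM, Complex.mul_conj'] at h2
    apply Complex.ofReal_injective
    push_cast at h2 ⊢
    exact h2
  have hcol : ∀ x : X, ∑ χ : IrrCharacter X, ‖(χ : X → ℂ) x‖ ^ 2 =
      (Nat.card (Subgroup.centralizer ({x} : Set X)) : ℝ) := fun x => by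
    have h2 := column_orthogonality x x
    rw [if_pos (IsConj.refl x)] at h2
    simp only [Complex.mul_conj, Complex.normSq_eq_norm_sq] at h2
    exact_mod_cast h2
  have hcent : ∀ (h : H) (σ : cyc M →ₐ[ℚ] ℂ),
      Nat.card (Subgroup.centralizer ({((h : X) * v) ^ kσ σ} : Set X)) ≤
        Nat.card (Subgroup.centralizer ({h} : Set H)) *
          Nat.card ↥(V ⊓ Subgroup.centralizer ({(h : X)} : Set X)) := by
    intro h σ
    have hc0 : Commute (h : X) v := hhv h h.2
    rw [← Nat.card_prod]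
    have hdec : ∀ y : Subgroup.centralizer ({((h : X) * v) ^ kσ σ} : Set X),
        ∃ x : Subgroup.centralizer ({h} : Set H) × ↥(V ⊓ Subgroup.centralizer ({(h : X)} : Set X)),
          (x.2 : X) * ((x.1 : H) : X) = y := by
      rintro ⟨y, hy0⟩
      obtain ⟨r, hr⟩ := exists_pow_eq_self_of_coprime (x := (h : X) * v) (n := kσ σ)
        ((hkc σ).coprime_dvd_right ((orderOf_dvd_natCard _).trans hM))
      have hy : Commute y (((h : X) * v) ^ kσ σ) := Subgroup.mem_centralizer_singleton_iff.1 hy0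
      have h1 : Commute y ((h : X) * v) := by have h' := hy.pow_right r; rwa [hr] at h'
      have h2 := h1.pow_right p
      rw [hc0.mul_pow, hVexp v hv, mul_one] at h2
      obtain ⟨r', hr'⟩ := exists_pow_eq_self_of_coprime (x := (h : X)) (n := p)
        ((hHcop.coprime_dvd_left (Subgroup.orderOf_coe h ▸ orderOf_dvd_natCard h)).symm)
      have hyh : Commute y (h : X) := by have h' := h2.pow_right r'; rwa [hr'] at h'
      have hyv : Commute y v := by
        have := (hyh.inv_right).mul_right h1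
        rwa [inv_mul_cancel_left] at this
      obtain ⟨⟨u, g⟩, hug, -⟩ := hGV.existsUnique y
      simp only at hug
      have huv : Commute (u : X) v := hVc u u.2 v hv
      have hgv : Commute (g : X) v := by
        have := huv.inv_left.mul_left hyv
        rwa [← hug, inv_mul_cancel_left] at this
      have hgH : (g : X) ∈ H := hH ▸ ⟨g.2, Subgroup.mem_centralizer_singleton_iff.2 hgv.eq⟩
      -- compare the conjugate by `h`
      have hhG : (h : X) ∈ G := (hH ▸ h.2 : (h : X) ∈ G ⊓ Subgroup.centralizer ({v} : Set X)).1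
      have heq : ((h : X) * u * (h : X)⁻¹) * ((h : X) * g * (h : X)⁻¹) = y := by
        rw [show ((h : X) * u * (h : X)⁻¹) * ((h : X) * g * (h : X)⁻¹) = (h : X) * (u * g) * (h : X)⁻¹ by group,
          hug, ← hyh.eq, mul_inv_cancel_right]
      obtain ⟨_, -, huniq⟩ := hGV.existsUnique y
      have e1 := (huniq (⟨(h : X) * u * (h : X)⁻¹, (inferInstance : V.Normal).conj_mem _ u.2 _⟩,
        ⟨(h : X) * g * (h : X)⁻¹, G.mul_mem (G.mul_mem hhG g.2) (G.inv_mem hhG)⟩) heq).trans
        (huniq (u, g) hug).symm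
      simp only [Prod.ext_iff, Subtype.ext_iff] at e1
      have hgh : (g : X) * (h : X) = (h : X) * g := (mul_inv_eq_iff_eq_mul.1 e1.2).symm
      have huh : (u : X) * (h : X) = (h : X) * u := (mul_inv_eq_iff_eq_mul.1 e1.1).symm
      exact ⟨(⟨⟨g, hgH⟩, Subgroup.mem_centralizer_singleton_iff.2 (Subtype.ext hgh)⟩,
        ⟨u, u.2, Subgroup.mem_centralizer_singleton_iff.2 huh⟩), hug⟩
    choose f hf using hdec
    exact Nat.card_le_card_of_injective f fun a c he => Subtype.ext (by rw [← hf a, ← hf c, he])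
  -- the comparison
  have hlow : ∀ χ : IrrCharacter X, (n : ℝ) * Fintype.card (IrrCharacter H) ≤
      ∑ σ : cyc M →ₐ[ℚ] ℂ, (Nat.card H : ℝ)⁻¹ *
        ∑ h : H, (w h : ℝ) * ‖(χ : X → ℂ) ((h * v) ^ kσ σ)‖ ^ 2 := by
    intro χ
    simp only [← hpar]
    rw [Finset.sum_comm, mul_comm, ← nsmul_eq_mul]
    exact Finset.card_nsmul_le_sum _ _ _ fun φ _ => card_le_sum_norm_sq (hbm χ φ) (hbi χ φ) (hb0 χ φ)
  have hcc : ∑ h : H, Nat.card (Subgroup.centralizer ({h} : Set H)) =
      Nat.card (ConjClasses H) * Nat.card H := by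
    rw [← card_comm_eq_card_conjClasses_mul_card,
      Nat.card_congr (Equiv.subtypeProdEquivSigmaSubtype fun a c : H => Commute a c), Nat.card_sigma]
    exact Finset.sum_congr rfl fun h _ => Nat.card_congr (Equiv.subtypeEquivRight fun c =>
      Subgroup.mem_centralizer_singleton_iff.trans ⟨fun e => e.symm, fun e => e.symm⟩)
  have h1 := Finset.sum_le_sum fun χ (_ : χ ∈ Finset.univ) => hlow χ
  rw [Finset.sum_const, Finset.card_univ, nsmul_eq_mul, Finset.sum_comm] at h1
  have h2 : ∀ σ : cyc M →ₐ[ℚ] ℂ, ∑ χ : IrrCharacter X, (Nat.card H : ℝ)⁻¹ *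
      ∑ h : H, (w h : ℝ) * ‖(χ : X → ℂ) ((h * v) ^ kσ σ)‖ ^ 2 ≤
      (Nat.card (ConjClasses H) : ℝ) * Nat.card V := by
    intro σ
    rw [← Finset.mul_sum, Finset.sum_comm, inv_mul_le_iff₀ (Nat.cast_pos.2 Nat.card_pos)]
    refine (Finset.sum_le_sum (g := fun h : H =>
      ((Nat.card V * Nat.card (Subgroup.centralizer ({h} : Set H)) : ℕ) : ℝ)) fun h _ => ?_).trans ?_
    · rw [← Finset.mul_sum, hcol, ← Nat.cast_mul, Nat.cast_le]
      calc w h * Nat.card (Subgroup.centralizer ({((h : X) * v) ^ kσ σ} : Set X))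
          ≤ w h * (Nat.card (Subgroup.centralizer ({h} : Set H)) *
              Nat.card ↥(V ⊓ Subgroup.centralizer ({(h : X)} : Set X))) := Nat.mul_le_mul_left _ (hcent h σ)
        _ = (w h * Nat.card ↥(V ⊓ Subgroup.centralizer ({(h : X)} : Set X))) *
              Nat.card (Subgroup.centralizer ({h} : Set H)) := by ring
        _ ≤ _ := Nat.mul_le_mul_right _ (hw h)
    · rw [← Nat.cast_sum, ← Finset.mul_sum, hcc]
      push_cast
      exact le_of_eq (by ring)
  have h3 := h1.trans (Finset.sum_le_sum fun σ _ => h2 σ)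
  rw [Finset.sum_const, Finset.card_univ, nsmul_eq_mul, ← hn, ← Nat.card_eq_fintype_card,
    ← Nat.card_eq_fintype_card, card_irrCharacter, card_irrCharacter] at h3
  haveI : Nonempty (ConjClasses H) := ⟨ConjClasses.mk 1⟩
  have hk : (0 : ℝ) < (n : ℝ) * Nat.card (ConjClasses H) :=
    mul_pos (Nat.cast_pos.2 hnpos) (Nat.cast_pos.2 Nat.card_pos)
  exact_mod_cast le_of_mul_le_mul_left (show ((n : ℝ) * Nat.card (ConjClasses H)) * Nat.card (ConjClasses X)
      ≤ ((n : ℝ) * Nat.card (ConjClasses H)) * Nat.card V by linarith [h3]) hk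

end CfsgLib.KgvReal
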