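import Cfsg.Agent.Lib.CharDegree.KgvReal.Span
import Cfsg.Agent.Lib.Char.Perm
import Mathlib.LinearAlgebra.BilinearForm.Basic
import Mathlib.LinearAlgebra.Dimension.Free
import Mathlib.FieldTheory.Finiteness

/-!
# Fixed spaces of a coprime linear group with an invariant form
-/

set_option autoImplicit false

namespace CfsgLib.KgvReal

open CfsgLib.Char

variable {H : Type*} [Group H] [Fintype H] {p : ℕ} [hp : Fact p.Prime]
  {U : Type*} [AddCommGroup U] [Module (ZMod p) U] [Finite U]
  (ρ : Representation (ZMod p) H U)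

/-- The fixed space. -/
noncomputable def fix (h : H) : Submodule (ZMod p) U := LinearMap.ker (LinearMap.id - ρ h)

/-- The commutator space. -/
noncomputable def mov (h : H) : Submodule (ZMod p) U := LinearMap.range (LinearMap.id - ρ h)

variable {ρ}

omit [Fintype H] [Finite U] in
theorem mem_fix {h : H} {x : U} : x ∈ fix ρ h ↔ ρ h x = x := by
  rw [fix, LinearMap.mem_ker, LinearMap.sub_apply, LinearMap.id_apply, sub_eq_zero, eq_comm]

omit [Fintype H] [Finite U] in
theorem sub_mem_mov (h : H) (u : U) : u - ρ h u ∈ mov ρ h := ⟨u, rfl⟩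

omit [Fintype H] in
theorem card_fix_mul_card_mov (h : H) : Nat.card (fix ρ h) * Nat.card (mov ρ h) = Nat.card U := by
  rw [← AddSubgroup.card_mul_index (LinearMap.id - ρ h : U →ₗ[ZMod p] U).toAddMonoidHom.ker,
    AddSubgroup.index_ker]
  rfl

omit [Fintype H] [Finite U] in
theorem orth_right (B : LinearMap.BilinForm (ZMod p) U)
    (hinv : ∀ (g : H) (x y : U), B (ρ g x) (ρ g y) = B x y) {h : H} {x y : U}
    (hx : x ∈ mov ρ h) (hy : y ∈ fix ρ h) : B x y = 0 ∧ B y x = 0 := by
  obtain ⟨u, rfl⟩ := hx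
  rw [mem_fix] at hy
  simp only [LinearMap.sub_apply, LinearMap.id_apply, map_sub]
  constructor
  · have h1 := hinv h u y
    rw [hy] at h1
    rw [h1, sub_self]
  · have h1 := hinv h y u
    rw [hy] at h1
    rw [h1, sub_self]

omit [Finite U] in
/-- The space is spanned by the fixed space and the commutator space. -/
theorem exists_decomp (hcop : ¬ p ∣ Nat.card H) (h : H) (x : U) :
    ∃ c ∈ fix ρ h, ∃ d ∈ mov ρ h, x = c + d := by
  set o := orderOf h
  have ho : (o : ZMod p) ≠ 0 := fun h0 =>
    hcop (((ZMod.natCast_eq_zero_iff o p).1 h0).trans (orderOf_dvd_natCard h))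
  set s := ∑ j ∈ Finset.range o, ρ (h ^ j) x with hs
  have hfix : s ∈ fix ρ h := by
    rw [mem_fix, hs, map_sum]
    have h1 := Finset.sum_range_succ' (fun j => ρ (h ^ j) x) o
    rw [Finset.sum_range_succ, pow_orderOf_eq_one, pow_zero] at h1
    refine (Finset.sum_congr rfl fun j _ => ?_).trans (add_right_cancel h1).symm
    rw [← Module.End.mul_apply, ← map_mul, ← pow_succ']
  have hmov : ∀ j : ℕ, x - ρ (h ^ j) x ∈ mov ρ h := by
    intro j
    induction j with
    | zero => simp
    | succ j ih =>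
      have h2 : x - ρ (h ^ (j + 1)) x = (x - ρ (h ^ j) x) + (ρ (h ^ j) x - ρ h (ρ (h ^ j) x)) := by
        rw [← Module.End.mul_apply, ← map_mul, ← pow_succ']
        abel
      rw [h2]
      exact add_mem ih (sub_mem_mov h _)
  refine ⟨(o : ZMod p)⁻¹ • s, Submodule.smul_mem _ _ hfix,
    (o : ZMod p)⁻¹ • ∑ j ∈ Finset.range o, (x - ρ (h ^ j) x),
    Submodule.smul_mem _ _ (sum_mem fun j _ => hmov j), ?_⟩
  rw [← smul_add, hs, ← Finset.sum_add_distrib, Finset.sum_congr rfl fun j _ => add_sub_cancel _ _,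
    Finset.sum_const, Finset.card_range, ← Nat.cast_smul_eq_nsmul (ZMod p), inv_smul_smul₀ ho]

omit [Finite U] in
/-- An invariant nondegenerate form is nondegenerate on a fixed space. -/
theorem nondeg_fix (hcop : ¬ p ∣ Nat.card H) (B : LinearMap.BilinForm (ZMod p) U)
    (hinv : ∀ (g : H) (x y : U), B (ρ g x) (ρ g y) = B x y)
    (hnd : ∀ x, (∀ y, B x y = 0) → x = 0) {h : H} {x : U} (hx : x ∈ fix ρ h)
    (h0 : ∀ y ∈ fix ρ h, B x y = 0) : x = 0 :=
  hnd x fun y => by
    obtain ⟨c, hc, d, hd, rfl⟩ := exists_decomp hcop h y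
    rw [map_add, h0 c hc, (orth_right B hinv hd hx).2, add_zero]

/-- The dimension of the fixed space. -/
noncomputable def fdim (ρ : Representation (ZMod p) H U) (h : H) : ℕ :=
  Module.finrank (ZMod p) (fix ρ h)

omit [Fintype H] in
theorem card_fix (h : H) : Nat.card (fix ρ h) = p ^ fdim ρ h := by
  rw [Module.natCard_eq_pow_finrank (K := ZMod p), Nat.card_zmod, fdim]

omit [Fintype H] in
theorem card_eq_pow : Nat.card U = p ^ Module.finrank (ZMod p) U := by
  rw [Module.natCard_eq_pow_finrank (K := ZMod p), Nat.card_zmod]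

/-- The linear group as a permutation group of a level set of an invariant function. -/
@[instance_reducible]
def levelAction {R : Type*} (Q : U → R) (hQ : ∀ (h : H) (u : U), Q (ρ h u) = Q u) (a : R) :
    MulAction H {u : U // Q u = a} where
  smul h u := ⟨ρ h u, (hQ h u).trans u.2⟩
  one_smul u := Subtype.ext (by show ρ 1 u.1 = u.1; simp)
  mul_smul g k u := Subtype.ext (by show ρ (g * k) u.1 = ρ g (ρ k u.1); simp)

/-- The number of fixed points in a level set is a virtual character. -/
theorem vir_card_level {R : Type*} (Q : U → R) (hQ : ∀ (h : H) (u : U), Q (ρ h u) = Q u) (a : R) :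
    Vir fun h => (Nat.card {u : fix ρ h // Q u = a} : ℂ) := by
  letI := levelAction Q hQ a
  convert vir_char (isCharacter_permChar (G := H) (X := {u : U // Q u = a})) using 1
  funext h
  show _ = (Nat.card (MulAction.fixedBy {u : U // Q u = a} h) : ℂ)
  exact congrArg Nat.cast (Nat.card_congr
    { toFun := fun u => ⟨⟨u.1.1, u.2⟩, Subtype.ext (mem_fix.1 u.1.2)⟩
      invFun := fun u => ⟨⟨u.1.1, mem_fix.2 (congrArg Subtype.val u.2)⟩, u.1.2⟩
      left_inv := fun u => rfl
      right_inv := fun u => rfl })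

theorem vir_card_fix : Vir fun h : H => (p : ℂ) ^ fdim ρ h := by
  convert vir_card_level (ρ := ρ) (fun _ => ()) (fun _ _ => rfl) () using 1
  funext h
  rw [← Nat.cast_pow, ← card_fix, Nat.card_congr (Equiv.subtypeUnivEquiv fun _ => rfl)]

end CfsgLib.KgvReal
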