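import Cfsg.Agent.Lib.CharDegree.KgvReal.Fixed
import Mathlib.Analysis.SpecialFunctions.Complex.CircleAddChar
import Mathlib.FieldTheory.Finite.Basic

/-!
# Gauss sums on the fixed spaces of an orthogonal group
-/

set_option autoImplicit false

namespace CfsgLib.KgvReal

open CfsgLib.Char
open scoped ComplexConjugate

variable {p : ℕ} [hp : Fact p.Prime]

theorem stdAddChar_pow (a : ZMod p) : ZMod.stdAddChar a ^ p = 1 := by
  rw [← AddChar.map_nsmul_eq_pow, ← Nat.cast_smul_eq_nsmul (ZMod p), ZMod.natCast_self, zero_smul,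
    AddChar.map_zero_eq_one]

theorem stdAddChar_neg (a : ZMod p) : ZMod.stdAddChar (-a) = conj (ZMod.stdAddChar a) := by
  rw [AddChar.map_neg_eq_inv, Complex.inv_eq_conj
    (Complex.norm_eq_one_of_pow_eq_one (stdAddChar_pow a) hp.out.ne_zero)]

section Sum

variable {V : Type*} [AddCommGroup V] [Module (ZMod p) V] [Fintype V]
  (S : LinearMap.BilinForm (ZMod p) V)

/-- The Gauss sum of a symmetric form. -/
noncomputable def gauss : ℂ := ∑ u : V, ZMod.stdAddChar (S u u)

theorem norm_gauss_sq (hp2 : p ≠ 2) (hS : ∀ x y, S x y = S y x) (hnd : ∀ x, (∀ y, S x y = 0) → x = 0) :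
    gauss S * conj (gauss S) = (Nat.card V : ℂ) := by
  classical
  have h2 : (2 : ZMod p) ≠ 0 := fun h => hp2
    ((Nat.prime_dvd_prime_iff_eq hp.out Nat.prime_two).1
      ((ZMod.natCast_eq_zero_iff 2 p).1 (by simpa using h)))
  have hstep : ∀ d : V, ∑ u : V, ZMod.stdAddChar (S (u + d) (u + d)) * conj (ZMod.stdAddChar (S u u)) =
      if d = 0 then (Nat.card V : ℂ) else 0 := by
    intro d
    have he : ∀ u : V, ZMod.stdAddChar (S (u + d) (u + d)) * conj (ZMod.stdAddChar (S u u)) =
        ZMod.stdAddChar (S d d) * ZMod.stdAddChar ((2 : ZMod p) * S d u) := fun u => by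
      rw [← stdAddChar_neg, ← AddChar.map_add_eq_mul, ← AddChar.map_add_eq_mul]
      congr 1
      simp only [map_add, LinearMap.add_apply]
      rw [hS u d]
      ring
    rw [Finset.sum_congr rfl fun u _ => he u, ← Finset.mul_sum]
    split_ifs with hd
    · subst hd
      simp [Nat.card_eq_fintype_card]
    · let χ : AddChar V ℂ :=
        (ZMod.stdAddChar (N := p)).compAddMonoidHom ((2 : ZMod p) • S d).toAddMonoidHom
      have hχ : χ ≠ 1 := by
        obtain ⟨w, hw⟩ : ∃ w, S d w ≠ 0 := by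
          by_contra h
          push Not at h
          exact hd (hnd d h)
        refine AddChar.ne_one_iff.2 ⟨w, fun h => mul_ne_zero h2 hw ?_⟩
        refine ZMod.injective_stdAddChar ?_
        rw [AddChar.map_zero_eq_one]
        exact h
      have h0 := AddChar.sum_eq_zero_of_ne_one hχ
      have h1 : ∑ u : V, ZMod.stdAddChar ((2 : ZMod p) * S d u) = 0 := h0
      rw [h1, mul_zero]
  rw [gauss, map_sum, Finset.sum_mul_sum, Finset.sum_comm]
  rw [Finset.sum_congr rfl fun u _ => (Equiv.sum_comp (Equiv.addLeft u)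
    (fun x => ZMod.stdAddChar (S x x) * conj (ZMod.stdAddChar (S u u)))).symm, Finset.sum_comm]
  simp only [Equiv.coe_addLeft, hstep, Finset.sum_ite_eq', Finset.mem_univ, if_true]

theorem gauss_sq_conj : gauss S ^ 2 = conj (gauss S ^ 2) := by
  classical
  obtain ⟨a, b, hab⟩ := ZMod.sq_add_sq p (-1)
  let T : V × V ≃ V × V :=
    { toFun := fun x => (a • x.1 + b • x.2, -(b • x.1) + a • x.2)
      invFun := fun x => (-(a • x.1 - b • x.2), -(b • x.1 + a • x.2))
      left_inv := fun x => by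
        refine Prod.ext ?_ ?_
        · calc _ = (-(a ^ 2 + b ^ 2)) • x.1 := by module
            _ = x.1 := by rw [hab, neg_neg, one_smul]
        · calc _ = (-(a ^ 2 + b ^ 2)) • x.2 := by module
            _ = x.2 := by rw [hab, neg_neg, one_smul]
      right_inv := fun x => by
        refine Prod.ext ?_ ?_
        · calc _ = (-(a ^ 2 + b ^ 2)) • x.1 := by module
            _ = x.1 := by rw [hab, neg_neg, one_smul]
        · calc _ = (-(a ^ 2 + b ^ 2)) • x.2 := by module
            _ = x.2 := by rw [hab, neg_neg, one_smul] }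
  rw [map_pow, sq, sq, gauss, map_sum, Finset.sum_mul_sum, Finset.sum_mul_sum,
    ← Fintype.sum_prod_type', ← Fintype.sum_prod_type']
  rw [← T.sum_comp]
  refine Finset.sum_congr rfl fun x _ => ?_
  rw [← stdAddChar_neg, ← stdAddChar_neg, ← AddChar.map_add_eq_mul, ← AddChar.map_add_eq_mul]
  congr 1
  show S (a • x.1 + b • x.2) (a • x.1 + b • x.2) + S (-(b • x.1) + a • x.2) (-(b • x.1) + a • x.2) = _
  simp only [map_add, map_neg, map_smul, LinearMap.add_apply, LinearMap.neg_apply, LinearMap.smul_apply,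
    smul_eq_mul]
  linear_combination (S x.1 x.1 + S x.2 x.2) * hab

theorem gauss_sq_eq (hp2 : p ≠ 2) (hS : ∀ x y, S x y = S y x) (hnd : ∀ x, (∀ y, S x y = 0) → x = 0) :
    gauss S ^ 2 = (Nat.card V : ℂ) ∨ gauss S ^ 2 = -(Nat.card V : ℂ) := by
  refine sq_eq_sq_iff_eq_or_eq_neg.1 ?_
  have h := norm_gauss_sq S hp2 hS hnd
  calc (gauss S ^ 2) ^ 2 = gauss S ^ 2 * conj (gauss S ^ 2) := by rw [← gauss_sq_conj]; ring
    _ = (Nat.card V : ℂ) ^ 2 := by rw [map_pow, ← mul_pow, h]

end Sum

section Group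

variable {H : Type*} [Group H] [Fintype H] {W : Type*} [AddCommGroup W] [Module (ZMod p) W] [Finite W]
  {ρ : Representation (ZMod p) H W}

/-- The Gauss sums of the fixed spaces form a function with the size of the fixed spaces. -/
theorem exists_gauss (hcop : ¬ p ∣ Nat.card H) (hp2 : p ≠ 2) (S : LinearMap.BilinForm (ZMod p) W)
    (hS : ∀ x y, S x y = S y x) (hinv : ∀ (g : H) (x y : W), S (ρ g x) (ρ g y) = S x y)
    (hnd : ∀ x, (∀ y, S x y = 0) → x = 0) {M : ℕ} [NeZero M] (hM : p ∣ M) :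
    ∃ f : H → ℂ, Vir f ∧ (∀ h, f h ∈ cyc M) ∧ (∀ h, f h * conj (f h) = (p : ℂ) ^ fdim ρ h) ∧
      ∀ h, IsIntegral ℤ (f h ^ 2 / (p : ℂ) ^ fdim ρ h) := by
  classical
  haveI : ∀ h : H, Fintype (fix ρ h) := fun h => Fintype.ofFinite _
  set Sh : ∀ h : H, LinearMap.BilinForm (ZMod p) (fix ρ h) :=
    fun h => S.compl₁₂ (fix ρ h).subtype (fix ρ h).subtype with hSh
  have hS' : ∀ h x y, Sh h x y = Sh h y x := fun h x y => hS x y
  have hnd' : ∀ h x, (∀ y, Sh h x y = 0) → x = 0 := fun h x hx =>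
    Subtype.ext (nondeg_fix hcop S hinv hnd x.2 fun y hy => hx ⟨y, hy⟩)
  have hcard : ∀ h : H, (Nat.card (fix ρ h) : ℂ) = (p : ℂ) ^ fdim ρ h := fun h => by
    rw [card_fix, Nat.cast_pow]
  refine ⟨fun h => gauss (Sh h), ?_, fun h => ?_, fun h => ?_, fun h => ?_⟩
  · convert Vir.sum (Finset.univ : Finset (ZMod p)) (fun a _ =>
      (vir_card_level (ρ := ρ) (fun u => S u u) (fun g u => hinv g u u) a).smul
        (IsIntegral.of_pow hp.out.pos (x := ZMod.stdAddChar a) (by rw [stdAddChar_pow]; exact isIntegral_one)))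
      using 1
    funext h
    rw [gauss, ← Finset.sum_fiberwise (g := fun u : fix ρ h => S u u)]
    refine Finset.sum_congr rfl fun a _ => ?_
    rw [Finset.sum_congr rfl (g := fun _ => ZMod.stdAddChar a) fun u hu => ?_, Finset.sum_const,
      nsmul_eq_mul, mul_comm, Nat.card_eq_fintype_card, Fintype.card_subtype]
    show ZMod.stdAddChar (S u u) = _
    rw [(Finset.mem_filter.1 hu).2]
  · refine sum_mem fun u _ => root_mem ?_
    obtain ⟨c, rfl⟩ := hM
    rw [pow_mul, stdAddChar_pow, one_pow]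
  · rw [norm_gauss_sq _ hp2 (hS' h) (hnd' h), hcard]
  · have hne : ((p : ℂ) ^ fdim ρ h) ≠ 0 := pow_ne_zero _ (Nat.cast_ne_zero.2 hp.out.ne_zero)
    rcases gauss_sq_eq _ hp2 (hS' h) (hnd' h) with e | e
    · rw [e, hcard, div_self hne]; exact isIntegral_one
    · rw [e, hcard, neg_div, div_self hne]; exact isIntegral_one.neg

end Group

end CfsgLib.KgvReal
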