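import Cfsg.Agent.Lib.CharDegree.KgvReal.Fixed
import Cfsg.Agent.Lib.Char.Gallagher
import Cfsg.Agent.Lib.Char.Exceptional.DetExtension
import Cfsg.Agent.Lib.Char.DegreeCenter
import Cfsg.Agent.Lib.CharDegree.ThreeDegrees.Basic
import Mathlib.GroupTheory.SemidirectProduct

/-!
# The Weil character of a coprime symplectic group

The extension of a faithful character of a Heisenberg group to its semidirect product with a coprime group
of isometries has squared norms the sizes of the fixed spaces, and divides by their square roots.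
-/

set_option autoImplicit false

namespace CfsgLib.KgvReal

open CfsgLib.Char CfsgLib.CharIntegral
open scoped ComplexConjugate
open Module

variable {p : ℕ} [hp : Fact p.Prime] {U : Type*} [AddCommGroup U] [Module (ZMod p) U]

/-- The Heisenberg group of a bilinear form. -/
@[ext]
structure Heis (b : LinearMap.BilinForm (ZMod p) U) where
  z : ZMod p
  u : U

variable {b : LinearMap.BilinForm (ZMod p) U}

instance : Group (Heis b) where
  mul x y := ⟨x.z + y.z + b x.u y.u, x.u + y.u⟩
  one := ⟨0, 0⟩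
  inv x := ⟨-x.z + b x.u x.u, -x.u⟩
  mul_assoc x y w := by
    refine Heis.ext ?_ (add_assoc _ _ _)
    show x.z + y.z + b x.u y.u + w.z + b (x.u + y.u) w.u =
      x.z + (y.z + w.z + b y.u w.u) + b x.u (y.u + w.u)
    rw [map_add b, LinearMap.add_apply, map_add (b x.u)]
    ring
  one_mul x := by
    refine Heis.ext ?_ (zero_add _)
    show 0 + x.z + b 0 x.u = x.z
    simp
  mul_one x := by
    refine Heis.ext ?_ (add_zero _)
    show x.z + 0 + b x.u 0 = x.z
    simp
  inv_mul_cancel x := by
    refine Heis.ext ?_ (neg_add_cancel _)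
    show -x.z + b x.u x.u + x.z + b (-x.u) x.u = 0
    simp

@[simp] theorem mul_z (x y : Heis b) : (x * y).z = x.z + y.z + b x.u y.u := rfl
@[simp] theorem mul_u (x y : Heis b) : (x * y).u = x.u + y.u := rfl
@[simp] theorem one_z : (1 : Heis b).z = 0 := rfl
@[simp] theorem one_u : (1 : Heis b).u = 0 := rfl

/-- The pairs. -/
def heisEquiv (b : LinearMap.BilinForm (ZMod p) U) : Heis b ≃ ZMod p × U :=
  { toFun := fun x => (x.z, x.u), invFun := fun x => ⟨x.1, x.2⟩,
    left_inv := fun _ => rfl, right_inv := fun _ => rfl }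

instance [Finite U] : Finite (Heis b) := Finite.of_equiv _ (heisEquiv b).symm

theorem card_heis : Nat.card (Heis b) = p * Nat.card U := by
  rw [Nat.card_congr (heisEquiv b), Nat.card_prod, Nat.card_zmod]

/-- The central element. -/
def zc (k : ZMod p) : Heis b := ⟨k, 0⟩

theorem zc_pow (k : ZMod p) (n : ℕ) : (zc k : Heis b) ^ n = zc ((n : ZMod p) * k) := by
  induction n with
  | zero => rw [pow_zero, Nat.cast_zero, zero_mul]; rfl
  | succ n ih =>
    rw [pow_succ, ih]
    refine Heis.ext ?_ ?_ <;> simp [zc] <;> ring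

theorem zc_val (k : ZMod p) : (zc k : Heis b) = zc 1 ^ k.val := by
  rw [zc_pow, mul_one, ZMod.natCast_zmod_val]

theorem zc_commute (k : ZMod p) (x : Heis b) : x * zc k = zc k * x :=
  Heis.ext (by simp [zc, add_comm]) (by simp [zc])

/-- Conjugation of a lift. -/
theorem conj_lift (w : U) (x : Heis b) :
    (⟨0, w⟩ : Heis b) * x * (⟨0, w⟩ : Heis b)⁻¹ = zc (b w x.u - b x.u w) * x := by
  rw [mul_inv_eq_iff_eq_mul, mul_assoc]
  refine Heis.ext ?_ ?_
  · simp [zc]
    ring
  · simp [zc, add_comm]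

/-- The projection. -/
def proj (b : LinearMap.BilinForm (ZMod p) U) : Heis b →* Multiplicative U where
  toFun x := Multiplicative.ofAdd x.u
  map_one' := rfl
  map_mul' _ _ := rfl

section Support

variable {Λ : Type*} [Group Λ] {V : Type*} [AddCommGroup V] [Module ℂ V] [FiniteDimensional ℂ V]

theorem scalar_pow (ρ : Representation ℂ Λ V) {z : Λ} {c : ℂ} (hz : ρ z = c • LinearMap.id) (n : ℕ) :
    ρ (z ^ n) = c ^ n • LinearMap.id := by
  rw [map_pow, hz, ← Module.End.one_eq_id, smul_pow, one_pow]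

/-- A character vanishes at an element moved by a nontrivial scalar. -/
theorem character_eq_zero (ρ : Representation ℂ Λ V) {z g y : Λ} {c : ℂ}
    (hz : ρ z = c • LinearMap.id) {n : ℕ} (hn : c ^ n ≠ 1) (hy : y * g * y⁻¹ = z ^ n * g) :
    ρ.character g = 0 := by
  have h1 : ρ.character (y * g * y⁻¹) = ρ.character g := by rw [Representation.char_conj]
  rw [hy, character_smul_of_scalar ρ (scalar_pow ρ hz n)] at h1
  by_contra h0
  exact hn (mul_right_cancel₀ h0 (h1.trans (one_mul _).symm))

/-- A character supported on a kernel with full norm has squared degree the size of the image. -/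
theorem degree_sq_eq [Fintype Λ] (χ : Cfsg.IrrCharacter Λ) {T : Type*} [Group T] (q : Λ →* T)
    (hq : Function.Surjective q) (h0 : ∀ g, q g ≠ 1 → (χ : Λ → ℂ) g = 0)
    (h1 : ∀ g, q g = 1 → ‖(χ : Λ → ℂ) g‖ = Cfsg.charDegree (χ : Λ → ℂ)) :
    Cfsg.charDegree (χ : Λ → ℂ) ^ 2 = Nat.card T := by
  classical
  set d := Cfsg.charDegree (χ : Λ → ℂ)
  have h := CharDegree.sum_norm_sq χ
  rw [← Finset.sum_filter_add_sum_filter_not Finset.univ (fun g => q g = 1),
    Finset.sum_eq_zero (s := Finset.univ.filter fun g => ¬ q g = 1)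
      (fun g hg => by rw [h0 g (Finset.mem_filter.1 hg).2, norm_zero]; ring),
    add_zero, Finset.sum_congr rfl (g := fun _ => (d : ℝ) ^ 2)
      (fun g hg => by rw [h1 g (Finset.mem_filter.1 hg).2]),
    Finset.sum_const, nsmul_eq_mul] at h
  have hker : (Finset.univ.filter fun g => q g = 1).card = Nat.card q.ker := by
    rw [← Fintype.card_subtype, ← Nat.card_eq_fintype_card]
    exact Nat.card_congr (Equiv.subtypeEquivRight fun g => MonoidHom.mem_ker.symm)
  rw [hker, ← q.ker.card_mul_index, Subgroup.index_ker, MonoidHom.range_eq_top.2 hq,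
    Subgroup.card_top, Nat.cast_mul] at h
  have hk : (Nat.card q.ker : ℝ) ≠ 0 := Nat.cast_ne_zero.2 Nat.card_pos.ne'
  exact_mod_cast mul_left_cancel₀ hk h

/-- The degree of a character of a Heisenberg group times a central part. -/
theorem heis_degree_sq [Fintype Λ] (hA : ∀ x : U, (∀ y, b y x - b x y = 0) → x = 0) (ι : Heis b →* Λ)
    (q : Λ →* Multiplicative U) (hqι : ∀ x, q (ι x) = proj b x)
    (hgen : ∀ g : Λ, ∃ (x : Heis b) (t : Λ), t ∈ Subgroup.center Λ ∧ g = ι x * t ∧ q g = proj b x)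
    (χ : Cfsg.IrrCharacter Λ) {c : ℂ} (hc1 : c ≠ 1) (hcp : c ^ p = 1)
    (hc : (χ : Λ → ℂ) (ι (zc 1)) = c * (χ : Λ → ℂ) 1) :
    Cfsg.charDegree (χ : Λ → ℂ) ^ 2 = Nat.card U := by
  obtain ⟨n, ρ, hρ, hρc, hn⟩ := CharDegree.exists_rep χ
  have hzc : ∀ k : ZMod p, ι (zc k) ∈ Subgroup.center Λ := fun k => Subgroup.mem_center_iff.2 fun g => by
    obtain ⟨x, t, ht, rfl, -⟩ := hgen g
    rw [mul_assoc, ← Subgroup.mem_center_iff.1 ht, ← mul_assoc, ← mul_assoc, ← map_mul, ← map_mul,
      zc_commute]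
  obtain ⟨c', hc'⟩ := exists_scalar_of_mem_center ρ (hzc 1)
  have hcc : c' = c := by
    have h := character_smul_of_scalar ρ hc' 1
    rw [mul_one, hρc, hc] at h
    exact (mul_right_cancel₀ (IsIrr.apply_one_ne_zero χ.2) h).symm
  subst hcc
  refine (degree_sq_eq χ q (fun y => ⟨ι ⟨0, y.toAdd⟩, hqι _⟩) (fun g hg => ?_) fun g hg => ?_).trans
    (Nat.card_congr Multiplicative.toAdd)
  · obtain ⟨x, t, ht, rfl, hqx⟩ := hgen g
    have hx : x.u ≠ 0 := fun h => hg (hqx.trans (congrArg Multiplicative.ofAdd h))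
    obtain ⟨w, hw⟩ : ∃ w, b w x.u - b x.u w ≠ 0 := by
      by_contra h
      push Not at h
      exact hx (hA x.u h)
    rw [← hρc]
    refine character_eq_zero ρ (y := ι ⟨0, w⟩) (n := (b w x.u - b x.u w).val) hc' ?_ ?_
    · intro h
      have ho : orderOf c' = p := orderOf_eq_prime hcp hc1
      refine hw ((ZMod.val_eq_zero _).1 (Nat.eq_zero_of_dvd_of_lt ?_ (ZMod.val_lt (b w x.u - b x.u w))))
      exact (dvd_of_eq ho.symm).trans (orderOf_dvd_of_pow_eq_one h)
    · rw [← map_pow, ← zc_val, ← mul_assoc (ι ⟨0, w⟩), mul_assoc (ι ⟨0, w⟩ * ι x),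
        ← Subgroup.mem_center_iff.1 ht, ← mul_assoc, ← map_inv, ← map_mul, ← map_mul, conj_lift, map_mul,
        mul_assoc]
  · obtain ⟨x, t, ht, rfl, hqx⟩ := hgen g
    have hx : x = zc x.z := Heis.ext rfl (Multiplicative.ofAdd.injective (hqx.symm.trans hg))
    obtain ⟨a, ha⟩ := exists_scalar_of_mem_center ρ (mul_mem (hx ▸ hzc x.z : ι x ∈ Subgroup.center Λ) ht)
    have h := CharIntegral.norm_character_eq_of_scalar ρ _ ha
    rw [hρc, Module.finrank_fin_fun, hn] at h
    exact h

end Support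

section Weil

variable [Finite U] {H : Type*} [Group H] [Fintype H] {ρ : Representation (ZMod p) H U}

/-- The isometries act on the Heisenberg group. -/
def heisAct (hb : ∀ (g : H) (x y : U), b (ρ g x) (ρ g y) = b x y) : H →* MulAut (Heis b) where
  toFun g :=
    { toFun := fun x => ⟨x.z, ρ g x.u⟩
      invFun := fun x => ⟨x.z, ρ g⁻¹ x.u⟩
      left_inv := fun x => Heis.ext rfl (by
        show ρ g⁻¹ (ρ g x.u) = x.u
        rw [← Module.End.mul_apply, ← map_mul, inv_mul_cancel, map_one, Module.End.one_apply])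
      right_inv := fun x => Heis.ext rfl (by
        show ρ g (ρ g⁻¹ x.u) = x.u
        rw [← Module.End.mul_apply, ← map_mul, mul_inv_cancel, map_one, Module.End.one_apply])
      map_mul' := fun x y => Heis.ext
        (show x.z + y.z + b x.u y.u = x.z + y.z + b (ρ g x.u) (ρ g y.u) by rw [hb])
        (map_add (ρ g) x.u y.u) }
  map_one' := MulEquiv.ext fun x => Heis.ext rfl (show ρ 1 x.u = x.u by simp)
  map_mul' g k := MulEquiv.ext fun x => Heis.ext rfl
    (show ρ (g * k) x.u = ρ g (ρ k x.u) by simp)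

/-- The Weil character. -/
theorem exists_weil (hcop : ¬ p ∣ Nat.card H)
    (hb : ∀ (g : H) (x y : U), b (ρ g x) (ρ g y) = b x y)
    (hA : ∀ x : U, (∀ y, b y x - b x y = 0) → x = 0) {M : ℕ} [NeZero M]
    (hM : p * Nat.card U * Nat.card H ∣ M) :
    ∃ f : H → ℂ, Vir f ∧ (∀ h, f h ∈ cyc M) ∧ (∀ h, f h * conj (f h) = (p : ℂ) ^ fdim ρ h) ∧
      ∀ h, IsIntegral ℤ (f h ^ 2 / (p : ℂ) ^ fdim ρ h) := by
  classical
  haveI := Fintype.ofFinite (Heis b)
  haveI := Fintype.ofFinite U
  -- a faithful character of the Heisenberg group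
  obtain ⟨θ, hθne⟩ : ∃ θ : Cfsg.IrrCharacter (Heis b),
      (θ : Heis b → ℂ) (zc 1) ≠ (θ : Heis b → ℂ) 1 := by
    by_contra h
    push Not at h
    have h1 := congrArg Heis.z (ThreeDegrees.eq_one_of_mem_all_ker h)
    exact one_ne_zero (α := ZMod p) h1
  obtain ⟨n, σ, hσ, hσc, hn⟩ := CharDegree.exists_rep θ
  have hzcen : (zc 1 : Heis b) ∈ Subgroup.center (Heis b) :=
    Subgroup.mem_center_iff.2 fun g => zc_commute 1 g
  obtain ⟨c, hc⟩ := exists_scalar_of_mem_center σ hzcen
  have hθc : (θ : Heis b → ℂ) (zc 1) = c * (θ : Heis b → ℂ) 1 := by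
    have h := character_smul_of_scalar σ hc 1
    rwa [mul_one, hσc] at h
  have hc1 : c ≠ 1 := fun h => hθne (by rw [hθc, h, one_mul])
  have hcp : c ^ p = 1 := by
    have h := character_smul_of_scalar σ (scalar_pow σ hc p) 1
    rw [zc_pow, ZMod.natCast_self, zero_mul, show (zc 0 : Heis b) = 1 from rfl, one_mul, hσc] at h
    exact mul_right_cancel₀ (IsIrr.apply_one_ne_zero θ.2) (h.symm.trans (one_mul _).symm)
  have hcn : ∀ a : ZMod p, a ≠ 0 → c ^ a.val ≠ 1 := fun a ha h => by
    refine ha ((ZMod.val_eq_zero a).1 (Nat.eq_zero_of_dvd_of_lt ?_ (ZMod.val_lt a)))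
    exact (dvd_of_eq (orderOf_eq_prime hcp hc1).symm).trans (orderOf_dvd_of_pow_eq_one h)
  have hdeg : Cfsg.charDegree (θ : Heis b → ℂ) ^ 2 = Nat.card U :=
    heis_degree_sq hA (MonoidHom.id _) (proj b) (fun _ => rfl)
      (fun g => ⟨g, 1, one_mem _, (mul_one g).symm, rfl⟩) θ hc1 hcp hθc
  have hsupp : ∀ x : Heis b, x.u ≠ 0 → (θ : Heis b → ℂ) x = 0 := fun x hx => by
    obtain ⟨w, hw⟩ : ∃ w, b w x.u - b x.u w ≠ 0 := by
      by_contra h
      push Not at h
      exact hx (hA x.u h)
    rw [← hσc]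
    refine character_eq_zero σ (y := (⟨0, w⟩ : Heis b)) hc (hcn _ hw) ?_
    rw [← zc_val, conj_lift]
  have hfixθ : ∀ (g : H) (x : Heis b), (θ : Heis b → ℂ) (heisAct hb g x) = (θ : Heis b → ℂ) x := by
    intro g x
    by_cases hx : x.u = 0
    · exact congrArg _ (Heis.ext rfl (show ρ g x.u = x.u by rw [hx, map_zero]))
    · rw [hsupp x hx, hsupp _ fun h => hx ?_]
      have h1 : ρ g x.u = 0 := h
      have h2 := congrArg (ρ g⁻¹) h1
      rwa [← Module.End.mul_apply, ← map_mul, inv_mul_cancel, map_one, Module.End.one_apply, map_zero] at h2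
  -- the semidirect product
  let eΓ : Heis b × H ≃ (SemidirectProduct (Heis b) H (heisAct hb)) :=
    { toFun := fun x => ⟨x.1, x.2⟩, invFun := fun g => (g.left, g.right),
      left_inv := fun _ => rfl, right_inv := fun _ => rfl }
  haveI : Fintype (SemidirectProduct (Heis b) H (heisAct hb)) := Fintype.ofEquiv _ eΓ
  have hcardΓ : Nat.card (SemidirectProduct (Heis b) H (heisAct hb)) = p * Nat.card U * Nat.card H := by
    rw [← Nat.card_congr eΓ, Nat.card_prod, card_heis]
  set N := (SemidirectProduct.inl (φ := heisAct hb) : Heis b →* _).range with hN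
  haveI hNn : N.Normal := by
    rw [hN, show (SemidirectProduct.inl (φ := heisAct hb) : Heis b →* _).range = _ from SemidirectProduct.range_inl_eq_ker_rightHom]
    exact MonoidHom.normal_ker _
  haveI := Fintype.ofFinite N
  let eN : Heis b ≃* N := MonoidHom.ofInjective SemidirectProduct.inl_injective
  have heN : ∀ x, ((eN x : N) : (SemidirectProduct (Heis b) H (heisAct hb))) = (SemidirectProduct.inl (φ := heisAct hb)) x := fun x => rfl
  have hNidx : N.index = Nat.card H := by
    rw [hN, show (SemidirectProduct.inl (φ := heisAct hb) : Heis b →* _).range = _ from SemidirectProduct.range_inl_eq_ker_rightHom, Subgroup.index_ker,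
      MonoidHom.range_eq_top.2 SemidirectProduct.rightHom_surjective, Subgroup.card_top]
  have hθN : Cfsg.IsIrrCharacter N fun x => (θ : Heis b → ℂ) (eN.symm x) :=
    IsIrr.comp_surjective eN.symm.toMonoidHom eN.symm.surjective θ.2
  obtain ⟨χ, ⟨hχ, hres, -⟩, -⟩ := Exceptional.canonical_extension (N := N) hθN
    (fun g x => by
      obtain ⟨x, rfl⟩ := eN.surjective x
      rw [eN.symm_apply_apply]
      refine (congrArg (θ : Heis b → ℂ) (?_ : _ = g.left * heisAct hb g.right x * g.left⁻¹)).trans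
        ((IsIrr.isClassFunction θ.2 _ g.left).trans (hfixθ g.right x))
      refine eN.injective ?_
      rw [eN.apply_symm_apply]
      refine Subtype.ext ?_
      show g * (SemidirectProduct.inl (φ := heisAct hb)) x * g⁻¹ = (SemidirectProduct.inl (φ := heisAct hb)) (g.left * heisAct hb g.right x * g.left⁻¹)
      refine SemidirectProduct.ext ?_ ?_ <;> simp)
    (d := Cfsg.charDegree (θ : Heis b → ℂ))
    (by show (θ : Heis b → ℂ) (eN.symm 1) = _; rw [map_one, CharDegree.cast_irrDegree])
    (by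
      have hUp : Nat.card U = p ^ finrank (ZMod p) U := card_eq_pow
      have hcpow : ∀ k : ℕ, (Nat.card H).Coprime (p ^ k) := fun k =>
        (hp.out.coprime_iff_not_dvd.2 hcop).symm.pow_right k
      rw [hNidx]
      refine Nat.Coprime.mul_right ?_ ?_
      · obtain ⟨m, τ, hτ, hτc⟩ := hθN
        rw [← hτc, CharExt.detOrder_eq]
        refine (hcpow (finrank (ZMod p) U + 1)).coprime_dvd_right ?_
        rw [pow_succ', ← hUp, ← card_heis (b := b), Nat.card_congr eN.toEquiv]
        exact orderOf_dvd_of_pow_eq_one (CharExt.hom_pow_card _)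
      · refine (hcpow (finrank (ZMod p) U)).coprime_dvd_right ?_
        rw [← hUp, ← hdeg]
        exact dvd_pow_self _ two_ne_zero)
  have hres' : ∀ x, χ ((SemidirectProduct.inl (φ := heisAct hb)) x) = (θ : Heis b → ℂ) x := fun x => by
    rw [← heN, hres, eN.symm_apply_apply]
  obtain ⟨m, τ, hτ, hτc⟩ := id hχ
  have hzΓ : (SemidirectProduct.inl (φ := heisAct hb)) (zc 1) ∈ Subgroup.center (SemidirectProduct (Heis b) H (heisAct hb)) := Subgroup.mem_center_iff.2 fun g => by
    refine SemidirectProduct.ext ?_ ?_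
    · show g.left * heisAct hb g.right (zc 1) = zc 1 * heisAct hb 1 g.left
      rw [map_one, MulAut.one_apply, show heisAct hb g.right (zc 1) = zc 1 from
        Heis.ext rfl (map_zero (ρ g.right)), zc_commute]
    · simp
  obtain ⟨c', hc'⟩ := exists_scalar_of_mem_center τ hzΓ
  have hcc : c' = c := by
    have h := character_smul_of_scalar τ hc' 1
    rw [mul_one, hτc, hres', hθc, ← hres' 1, map_one] at h
    exact (mul_right_cancel₀ (IsIrr.apply_one_ne_zero hχ) h).symm
  subst hcc
  have hcnorm : ‖c'‖ = 1 := Complex.norm_eq_one_of_pow_eq_one hcp hp.out.ne_zero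
  have hzk : ∀ (k : ZMod p) (g : (SemidirectProduct (Heis b) H (heisAct hb))), χ ((SemidirectProduct.inl (φ := heisAct hb)) (zc k) * g) = c' ^ k.val * χ g := fun k g => by
    rw [zc_val, map_pow, ← hτc]
    exact character_smul_of_scalar τ (scalar_pow τ hc' _) g
  -- the sum over a coset
  have hsum : ∀ h : H, ∑ x : Heis b, (χ ((SemidirectProduct.inl (φ := heisAct hb)) x * (SemidirectProduct.inr (φ := heisAct hb)) h) * conj (χ ((SemidirectProduct.inl (φ := heisAct hb)) x * (SemidirectProduct.inr (φ := heisAct hb)) h))) =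
      (Nat.card (Heis b) : ℂ) := by
    set S : H → ℂ := fun h => ∑ x : Heis b, χ ((SemidirectProduct.inl (φ := heisAct hb)) x * (SemidirectProduct.inr (φ := heisAct hb)) h) * conj (χ ((SemidirectProduct.inl (φ := heisAct hb)) x * (SemidirectProduct.inr (φ := heisAct hb)) h)) with hS
    have hconj : ∀ (y h : H) (x : Heis b), (SemidirectProduct.inr (φ := heisAct hb)) y * ((SemidirectProduct.inl (φ := heisAct hb)) x * (SemidirectProduct.inr (φ := heisAct hb)) h) * ((SemidirectProduct.inr (φ := heisAct hb)) y)⁻¹ =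
        (SemidirectProduct.inl (φ := heisAct hb)) (heisAct hb y x) * (SemidirectProduct.inr (φ := heisAct hb)) (y * h * y⁻¹) := fun y h x => by
      refine SemidirectProduct.ext ?_ ?_ <;> simp
    have hScl : Cfsg.IsClassFunction H S := fun h y => by
      show ∑ x : Heis b, _ = ∑ x : Heis b, _
      refine (Fintype.sum_equiv (heisAct hb y).toEquiv _ _ fun x => ?_).symm
      show _ = χ ((SemidirectProduct.inl (φ := heisAct hb)) (heisAct hb y x) * _) * conj (χ ((SemidirectProduct.inl (φ := heisAct hb)) (heisAct hb y x) * _))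
      rw [← hconj, IsIrr.isClassFunction hχ]
    have hrestr : Cfsg.IsIrrCharacter N fun x : N => χ x := by
      rw [show (fun x : N => χ x) = fun x : N => (θ : Heis b → ℂ) (eN.symm x) from funext hres]
      exact hθN
    have hinner : ∀ φ : Cfsg.IrrCharacter H,
        Cfsg.classInner (fun h => S h - (Nat.card (Heis b) : ℂ)) (φ : H → ℂ) = 0 := by
      intro φ
      have hq : ∀ x ∈ N, (SemidirectProduct.rightHom : (SemidirectProduct (Heis b) H (heisAct hb)) →* H) x = 1 := by
        rintro _ ⟨y, rfl⟩; simp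
      let qH : (SemidirectProduct (Heis b) H (heisAct hb)) ⧸ N →* H := QuotientGroup.lift N (SemidirectProduct.rightHom : (SemidirectProduct (Heis b) H (heisAct hb)) →* H)
        fun x hx => MonoidHom.mem_ker.2 (hq x hx)
      have hqs : Function.Surjective qH := fun h => ⟨QuotientGroup.mk ((SemidirectProduct.inr (φ := heisAct hb)) h), by
        show (SemidirectProduct.rightHom : (SemidirectProduct (Heis b) H (heisAct hb)) →* H) ((SemidirectProduct.inr (φ := heisAct hb)) h) = h
        simp⟩
      let β : Cfsg.IrrCharacter ((SemidirectProduct (Heis b) H (heisAct hb)) ⧸ N) := ⟨_, IsIrr.comp_surjective qH hqs φ.2⟩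
      have h1 := Gallagher.classInner_twistBy (IsIrr.isCharacter hχ) hrestr (trivChar ((SemidirectProduct (Heis b) H (heisAct hb)) ⧸ N)) β
      have e1 : Cfsg.classInner (Gallagher.twistBy χ (trivChar ((SemidirectProduct (Heis b) H (heisAct hb)) ⧸ N) : (SemidirectProduct (Heis b) H (heisAct hb)) ⧸ N → ℂ))
          (Gallagher.twistBy χ (β : (SemidirectProduct (Heis b) H (heisAct hb)) ⧸ N → ℂ)) =
          (Nat.card (Heis b) : ℂ)⁻¹ * Cfsg.classInner S (φ : H → ℂ) := by
        rw [Cfsg.classInner, Cfsg.classInner, ← mul_assoc, ← mul_inv, ← Nat.cast_mul,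
          card_heis, ← hcardΓ, ← eΓ.sum_comp, Fintype.sum_prod_type, Finset.sum_comm]
        congr 1
        refine Finset.sum_congr rfl fun h _ => ?_
        rw [hS, Finset.sum_mul]
        refine Finset.sum_congr rfl fun x _ => ?_
        have e2 : eΓ (x, h) = (SemidirectProduct.inl (φ := heisAct hb)) x * (SemidirectProduct.inr (φ := heisAct hb)) h := by
          refine SemidirectProduct.ext ?_ ?_ <;> simp [eΓ]
        rw [Gallagher.twistBy_apply, Gallagher.twistBy_apply, trivChar_apply, one_mul, map_mul, e2]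
        show _ * (conj ((φ : H → ℂ) ((SemidirectProduct.rightHom : (SemidirectProduct (Heis b) H (heisAct hb)) →* H) ((SemidirectProduct.inl (φ := heisAct hb)) x * (SemidirectProduct.inr (φ := heisAct hb)) h))) * _) = _
        rw [map_mul]
        simp only [SemidirectProduct.rightHom_inl, SemidirectProduct.rightHom_inr, one_mul]
        ring
      rw [e1] at h1
      rw [show (fun h => S h - (Nat.card (Heis b) : ℂ)) = S - (Nat.card (Heis b) : ℂ) • (fun _ => (1 : ℂ))
        from funext fun h => by simp, classInner_sub_left, classInner_smul_left, sub_eq_zero]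
      have hK : (Nat.card (Heis b) : ℂ) ≠ 0 := Nat.cast_ne_zero.2 Nat.card_pos.ne'
      rw [inv_mul_eq_iff_eq_mul₀ hK] at h1
      rw [h1]
      congr 1
      show _ = Cfsg.classInner (trivChar H : H → ℂ) (φ : H → ℂ)
      rw [classInner_irr]
      refine if_congr ⟨fun h => irr_ext fun y => ?_, fun h => irr_ext fun q => ?_⟩ rfl rfl
      · obtain ⟨q, rfl⟩ := hqs y
        have h2 := congrFun (congrArg Subtype.val h) q
        rw [trivChar_apply] at h2 ⊢
        exact h2
      · show (1 : ℂ) = (φ : H → ℂ) (qH q)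
        rw [← h, trivChar_apply]
    have h0 := eq_zero_of_classInner_eq_zero
      (θ := fun h => S h - (Nat.card (Heis b) : ℂ)) (fun x y => by simp only [hScl x y]) hinner
    exact fun h => sub_eq_zero.1 (congrFun h0 h)
  -- the norms
  set f : H → ℂ := fun h => χ ((SemidirectProduct.inr (φ := heisAct hb)) h) with hf
  have hfnorm : ∀ h, f h * conj (f h) = (p : ℂ) ^ fdim ρ h := by
    intro h
    have hzero : ∀ x : Heis b, x.u ∉ mov ρ h → χ ((SemidirectProduct.inl (φ := heisAct hb)) x * (SemidirectProduct.inr (φ := heisAct hb)) h) = 0 := by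
      intro x hx
      obtain ⟨w, hwf, hw⟩ : ∃ w ∈ fix ρ h, b w x.u - b x.u w ≠ 0 := by
        obtain ⟨cx, hcx, dx, hdx, hxe⟩ := exists_decomp hcop h x.u
        by_contra hno
        push Not at hno
        have hb' : ∀ (g : H) (u v : U), (b - b.flip) (ρ g u) (ρ g v) = (b - b.flip) u v := fun g u v => by
          simp [hb]
        have h0 : cx = 0 := nondeg_fix hcop (b - b.flip) hb'
          (fun u hu => hA u fun y => by
            have := hu y
            simp only [LinearMap.sub_apply, LinearMap.BilinForm.flip_apply] at this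
            linear_combination -this) hcx fun w hw => by
            have h1 := hno w hw
            rw [hxe] at h1
            simp only [map_add, LinearMap.add_apply, (orth_right b hb hdx hw).1,
              (orth_right b hb hdx hw).2, add_zero] at h1
            simp only [LinearMap.sub_apply, LinearMap.BilinForm.flip_apply]
            linear_combination -h1
        exact hx (by rw [hxe, h0, zero_add]; exact hdx)
      rw [← hτc]
      refine character_eq_zero τ (y := (SemidirectProduct.inl (φ := heisAct hb)) ⟨0, w⟩) hc' (hcn _ hw) ?_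
      rw [← map_pow, ← zc_val, ← mul_assoc ((SemidirectProduct.inl (φ := heisAct hb)) (zc _)), ← map_mul, ← conj_lift]
      have hfw : (SemidirectProduct.inr (φ := heisAct hb)) h * (SemidirectProduct.inl (φ := heisAct hb)) ⟨0, w⟩ = (SemidirectProduct.inl (φ := heisAct hb)) ⟨0, w⟩ * (SemidirectProduct.inr (φ := heisAct hb)) h := by
        refine SemidirectProduct.ext ?_ ?_
        · have h1 : heisAct hb h (⟨0, w⟩ : Heis b) = ⟨0, w⟩ := Heis.ext rfl (mem_fix.1 hwf)
          simp [h1]
        · simp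
      rw [map_mul, map_mul, map_inv, mul_assoc ((SemidirectProduct.inl (φ := heisAct hb)) ⟨0, w⟩ * (SemidirectProduct.inl (φ := heisAct hb)) x),
        ← (Commute.inv_right (show Commute ((SemidirectProduct.inr (φ := heisAct hb)) h) ((SemidirectProduct.inl (φ := heisAct hb)) ⟨0, w⟩) from hfw).eq ▸ rfl :
          (SemidirectProduct.inr (φ := heisAct hb)) h * ((SemidirectProduct.inl (φ := heisAct hb)) ⟨0, w⟩)⁻¹ = ((SemidirectProduct.inl (φ := heisAct hb)) ⟨0, w⟩)⁻¹ * (SemidirectProduct.inr (φ := heisAct hb)) h)]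
      simp only [mul_assoc]
    have hval : ∀ x : Heis b, x.u ∈ mov ρ h →
        χ ((SemidirectProduct.inl (φ := heisAct hb)) x * (SemidirectProduct.inr (φ := heisAct hb)) h) * conj (χ ((SemidirectProduct.inl (φ := heisAct hb)) x * (SemidirectProduct.inr (φ := heisAct hb)) h)) = f h * conj (f h) := by
      intro x hx
      obtain ⟨u, hu⟩ := hx
      simp only [LinearMap.sub_apply, LinearMap.id_apply] at hu
      have e : (SemidirectProduct.inl (φ := heisAct hb)) x * (SemidirectProduct.inr (φ := heisAct hb)) h = (SemidirectProduct.inl (φ := heisAct hb)) (zc (x.z - ((⟨0, u⟩ : Heis b) * (heisAct hb h ⟨0, u⟩)⁻¹).z)) *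
          ((SemidirectProduct.inl (φ := heisAct hb)) ⟨0, u⟩ * (SemidirectProduct.inr (φ := heisAct hb)) h * ((SemidirectProduct.inl (φ := heisAct hb)) ⟨0, u⟩)⁻¹) := by
        have e1 : (SemidirectProduct.inl (φ := heisAct hb)) ⟨0, u⟩ * (SemidirectProduct.inr (φ := heisAct hb)) h * ((SemidirectProduct.inl (φ := heisAct hb)) ⟨0, u⟩)⁻¹ =
            (SemidirectProduct.inl (φ := heisAct hb)) ((⟨0, u⟩ : Heis b) * (heisAct hb h ⟨0, u⟩)⁻¹) * (SemidirectProduct.inr (φ := heisAct hb)) h := by
          refine SemidirectProduct.ext ?_ ?_ <;> simp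
        rw [e1, ← mul_assoc, ← map_mul]
        congr 2
        refine Heis.ext ?_ ?_
        · simp [zc]
        · show x.u = 0 + (u + -(ρ h u))
          rw [zero_add, ← sub_eq_add_neg, hu]
      rw [e, hzk, IsIrr.isClassFunction hχ, map_mul]
      have h1 : c' ^ (x.z - ((⟨0, u⟩ : Heis b) * (heisAct hb h ⟨0, u⟩)⁻¹).z).val *
          conj (c' ^ (x.z - ((⟨0, u⟩ : Heis b) * (heisAct hb h ⟨0, u⟩)⁻¹).z).val) = 1 := by
        rw [Complex.mul_conj', norm_pow, hcnorm]; simp
      linear_combination (χ ((SemidirectProduct.inr (φ := heisAct hb)) h) * conj (χ ((SemidirectProduct.inr (φ := heisAct hb)) h))) * h1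
    have h1 := hsum h
    rw [← Finset.sum_filter_add_sum_filter_not Finset.univ (fun x : Heis b => x.u ∈ mov ρ h),
      Finset.sum_eq_zero (s := Finset.univ.filter fun x : Heis b => ¬ x.u ∈ mov ρ h)
        (fun x hx => by rw [hzero x (Finset.mem_filter.1 hx).2, zero_mul]), add_zero,
      Finset.sum_congr rfl (g := fun _ => f h * conj (f h))
        (fun x hx => hval x (Finset.mem_filter.1 hx).2), Finset.sum_const, nsmul_eq_mul] at h1
    have hcnt : (Finset.univ.filter fun x : Heis b => x.u ∈ mov ρ h).card = p * Nat.card (mov ρ h) := by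
      have e2 : {x : Heis b // x.u ∈ mov ρ h} ≃ ZMod p × mov ρ h :=
        { toFun := fun x => (x.1.z, ⟨x.1.u, x.2⟩), invFun := fun x => ⟨⟨x.1, x.2.1⟩, x.2.2⟩,
          left_inv := fun _ => rfl, right_inv := fun _ => rfl }
      rw [← Fintype.card_subtype, ← Nat.card_eq_fintype_card, Nat.card_congr e2, Nat.card_prod,
        Nat.card_zmod]
    rw [hcnt, card_heis, ← card_fix_mul_card_mov (ρ := ρ) h] at h1
    rw [← Nat.cast_pow, ← card_fix]
    push_cast at h1
    refine mul_left_cancel₀ (mul_ne_zero (Nat.cast_ne_zero.2 hp.out.ne_zero : (p : ℂ) ≠ 0)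
      (Nat.cast_ne_zero.2 Nat.card_pos.ne' : (Nat.card (mov ρ h) : ℂ) ≠ 0)) (h1.trans ?_)
    ring
  refine ⟨f, vir_char (IsChar.comp (SemidirectProduct.inr (φ := heisAct hb)) (IsIrr.isCharacter hχ)), fun h =>
    char_mem (IsIrr.isCharacter hχ) (hcardΓ ▸ hM) _, hfnorm, fun h => ?_⟩
  -- divisibility
  set bF : LinearMap.BilinForm (ZMod p) (fix ρ h) := b.compl₁₂ (fix ρ h).subtype (fix ρ h).subtype with hbF
  let Z := Subgroup.zpowers h
  let j : Heis bF →* Heis b :=
    { toFun := fun x => ⟨x.z, x.u.1⟩, map_one' := rfl, map_mul' := fun _ _ => rfl }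
  have hZfix : ∀ (t : Z) (x : Heis bF), (SemidirectProduct.inr (φ := heisAct hb)) (t : H) * (SemidirectProduct.inl (φ := heisAct hb)) (j x) = (SemidirectProduct.inl (φ := heisAct hb)) (j x) * (SemidirectProduct.inr (φ := heisAct hb)) (t : H) := by
    intro t x
    refine SemidirectProduct.ext ?_ ?_
    · have hcf : heisAct hb (t : H) (j x) = j x := by
        refine Heis.ext rfl (?_ : ρ (t : H) x.u.1 = x.u.1)
        obtain ⟨i, hi⟩ := mem_powers_iff_mem_zpowers.2 t.2
        rw [← hi]
        clear hi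
        induction i with
        | zero => simp
        | succ i ih =>
          show ρ (h ^ (i + 1)) x.u.1 = x.u.1
          rw [pow_succ, map_mul, Module.End.mul_apply, mem_fix.1 x.u.2]
          exact ih
      simp [hcf]
    · simp
  let Φ : Heis bF × Z →* (SemidirectProduct (Heis b) H (heisAct hb)) :=
    { toFun := fun x => (SemidirectProduct.inl (φ := heisAct hb)) (j x.1) * (SemidirectProduct.inr (φ := heisAct hb)) (x.2 : H)
      map_one' := by simp
      map_mul' := fun x y => by
        show (SemidirectProduct.inl (φ := heisAct hb)) (j (x.1 * y.1)) * (SemidirectProduct.inr (φ := heisAct hb)) ((x.2 * y.2 : Z) : H) = _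
        rw [map_mul, map_mul, Subgroup.coe_mul, map_mul]
        calc (SemidirectProduct.inl (φ := heisAct hb)) (j x.1) * (SemidirectProduct.inl (φ := heisAct hb)) (j y.1) * ((SemidirectProduct.inr (φ := heisAct hb)) (x.2 : H) * (SemidirectProduct.inr (φ := heisAct hb)) (y.2 : H))
            = (SemidirectProduct.inl (φ := heisAct hb)) (j x.1) * ((SemidirectProduct.inl (φ := heisAct hb)) (j y.1) * (SemidirectProduct.inr (φ := heisAct hb)) (x.2 : H)) * (SemidirectProduct.inr (φ := heisAct hb)) (y.2 : H) := by simp only [mul_assoc]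
          _ = (SemidirectProduct.inl (φ := heisAct hb)) (j x.1) * ((SemidirectProduct.inr (φ := heisAct hb)) (x.2 : H) * (SemidirectProduct.inl (φ := heisAct hb)) (j y.1)) * (SemidirectProduct.inr (φ := heisAct hb)) (y.2 : H) := by rw [hZfix]
          _ = _ := by simp only [mul_assoc] }
  haveI := Fintype.ofFinite (Heis bF × Z)
  haveI := Fintype.ofFinite (Cfsg.IrrCharacter (Heis bF × Z))
  obtain ⟨mult, hmult⟩ := IsChar.exists_sum (IsChar.comp Φ (IsIrr.isCharacter hχ))
  have hmult' : ∀ x, χ (Φ x) = ∑ μ, (mult μ : ℂ) * (μ : Heis bF × Z → ℂ) x := fun x =>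
    (congrFun hmult x).trans (by simp)
  have hgen : ∀ g : Heis bF × Z, ∃ (x : Heis bF) (t : Heis bF × Z), t ∈ Subgroup.center _ ∧
      g = MonoidHom.inl (Heis bF) Z x * t ∧ (proj bF).comp (MonoidHom.fst _ _) g = proj bF x := by
    rintro ⟨x, t⟩
    refine ⟨x, (1, t), Subgroup.mem_center_iff.2 ?_, by simp, rfl⟩
    rintro ⟨y, s⟩
    obtain ⟨i, hi⟩ := Subgroup.mem_zpowers_iff.1 t.2
    obtain ⟨k, hk⟩ := Subgroup.mem_zpowers_iff.1 s.2
    refine Prod.ext (by simp) (Subtype.ext ?_)
    show (s : H) * t = t * s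
    rw [← hi, ← hk]
    exact Commute.zpow_zpow_self h k i
  have hzcen' : ((zc 1 : Heis bF), (1 : Z)) ∈ Subgroup.center (Heis bF × Z) :=
    Subgroup.mem_center_iff.2 fun g => Prod.ext (zc_commute 1 g.1) (by simp)
  have hμc : ∀ μ : Cfsg.IrrCharacter (Heis bF × Z), ∃ a : ℂ, a ^ p = 1 ∧
      (μ : Heis bF × Z → ℂ) (zc 1, 1) = a * (μ : Heis bF × Z → ℂ) 1 := by
    intro μ
    obtain ⟨k, π, hπ, hπc, hk⟩ := CharDegree.exists_rep μ
    obtain ⟨a, ha⟩ := exists_scalar_of_mem_center π hzcen'
    refine ⟨a, ?_, ?_⟩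
    · have h2 := character_smul_of_scalar π (scalar_pow π ha p) 1
      rw [Prod.pow_mk, zc_pow, ZMod.natCast_self, zero_mul, one_pow,
        show ((zc 0 : Heis bF), (1 : Z)) = 1 from rfl, one_mul, hπc] at h2
      exact mul_right_cancel₀ (IsIrr.apply_one_ne_zero μ.2) (h2.symm.trans (one_mul _).symm)
    · have h2 := character_smul_of_scalar π ha 1
      rwa [mul_one, hπc] at h2
  choose a hap ha using hμc
  have hall : ∀ μ, mult μ ≠ 0 → a μ = c' := by
    intro μ hμ
    have hd1 := hmult' 1
    have hz1 := hmult' ((zc 1 : Heis bF), (1 : Z))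
    rw [show Φ ((zc 1 : Heis bF), (1 : Z)) = (SemidirectProduct.inl (φ := heisAct hb)) (zc 1) * 1 by
      show (SemidirectProduct.inl (φ := heisAct hb)) (j (zc 1)) * (SemidirectProduct.inr (φ := heisAct hb)) ((1 : Z) : H) = _
      rw [show ((1 : Z) : H) = 1 from rfl, map_one]; rfl] at hz1
    rw [show (SemidirectProduct.inl (φ := heisAct hb)) (zc 1) * (1 : (SemidirectProduct (Heis b) H (heisAct hb))) = (SemidirectProduct.inl (φ := heisAct hb)) (zc 1) from mul_one _, hres', hθc, ← hres' 1, map_one,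
      ← map_one Φ, hd1, Finset.mul_sum] at hz1
    simp only [ha] at hz1
    have hre : ∑ ν, ((mult ν : ℂ) * (ν : Heis bF × Z → ℂ) 1) * (1 - a ν * conj c') = 0 := by
      have hcc : c' * conj c' = 1 := by rw [Complex.mul_conj', hcnorm]; simp
      calc ∑ ν, ((mult ν : ℂ) * (ν : Heis bF × Z → ℂ) 1) * (1 - a ν * conj c')
          = conj c' * (∑ ν, c' * ((mult ν : ℂ) * (ν : Heis bF × Z → ℂ) 1) -
              ∑ ν, (mult ν : ℂ) * (a ν * (ν : Heis bF × Z → ℂ) 1)) := by
            rw [mul_sub, Finset.mul_sum, Finset.mul_sum, ← Finset.sum_sub_distrib]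
            refine Finset.sum_congr rfl fun ν _ => ?_
            linear_combination -((mult ν : ℂ) * (ν : Heis bF × Z → ℂ) 1) * hcc
        _ = 0 := by rw [hz1, sub_self, mul_zero]
    have hre' := congrArg Complex.re hre
    rw [Complex.re_sum, Complex.zero_re] at hre'
    have hnn : ∀ ν, (a ν * conj c').re ≤ 1 ∧ ((a ν * conj c').re = 1 → a ν = c') := by
      intro ν
      have hn1 : ‖a ν * conj c'‖ = 1 := by
        rw [norm_mul, Complex.norm_eq_one_of_pow_eq_one (hap ν) hp.out.ne_zero, Complex.norm_conj,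
          hcnorm, one_mul]
      refine ⟨(Complex.re_le_norm _).trans hn1.le, fun hre1 => ?_⟩
      have him : (a ν * conj c').im = 0 := by
        have := Complex.sq_norm (a ν * conj c')
        rw [hn1, Complex.normSq_apply, hre1] at this
        nlinarith
      have h1 : a ν * conj c' = 1 := Complex.ext (by rw [hre1, Complex.one_re]) (by rw [him, Complex.one_im])
      calc a ν = a ν * (c' * conj c') := by rw [Complex.mul_conj', hcnorm]; simp
        _ = c' * (a ν * conj c') := by ring
        _ = c' := by rw [h1, mul_one]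
    have hdeg' : ∀ ν : Cfsg.IrrCharacter (Heis bF × Z),
        (((mult ν : ℂ) * (ν : Heis bF × Z → ℂ) 1) * (1 - a ν * conj c')).re =
          ((mult ν * Cfsg.charDegree (ν : Heis bF × Z → ℂ) : ℕ) : ℝ) * (1 - (a ν * conj c').re) := by
      intro ν
      rw [← CharDegree.cast_irrDegree, ← Nat.cast_mul]
      simp [Complex.mul_re]
    simp only [hdeg'] at hre'
    have h2 := (Finset.sum_eq_zero_iff_of_nonneg fun ν _ =>
      mul_nonneg (Nat.cast_nonneg _) (sub_nonneg.2 (hnn ν).1)).1 hre' μ (Finset.mem_univ _)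
    rcases mul_eq_zero.1 h2 with h3 | h3
    · exact absurd ((Nat.mul_eq_zero.1 (Nat.cast_eq_zero.1 h3)).resolve_right
        (CharDegree.charDegree_pos μ).ne') hμ
    · exact (hnn μ).2 (sub_eq_zero.1 h3).symm
  have hAF : ∀ x : fix ρ h, (∀ y, bF y x - bF x y = 0) → x = 0 := fun x hx =>
    Subtype.ext (nondeg_fix hcop (b - b.flip) (fun g u v => by simp [hb])
      (fun u hu => hA u fun y => by
        have := hu y
        simp only [LinearMap.sub_apply, LinearMap.BilinForm.flip_apply] at this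
        linear_combination -this) x.2 fun y hy => by
      have := hx ⟨y, hy⟩
      simp only [bF, LinearMap.compl₁₂_apply, Submodule.subtype_apply] at this
      simp only [LinearMap.sub_apply, LinearMap.BilinForm.flip_apply]
      linear_combination -this)
  have hval : ∀ μ, mult μ ≠ 0 → ∃ t : ℂ, IsIntegral ℤ t ∧
      (μ : Heis bF × Z → ℂ) (1, ⟨h, Subgroup.mem_zpowers h⟩) =
        t * (Cfsg.charDegree (μ : Heis bF × Z → ℂ) : ℂ) ∧
      Cfsg.charDegree (μ : Heis bF × Z → ℂ) ^ 2 = p ^ fdim ρ h := by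
    intro μ hμ
    obtain ⟨k, π, hπ, hπc, hk⟩ := CharDegree.exists_rep μ
    have hcen : ((1 : Heis bF), (⟨h, Subgroup.mem_zpowers h⟩ : Z)) ∈ Subgroup.center (Heis bF × Z) := by
      obtain ⟨x, t, ht, he, hq⟩ := hgen (1, ⟨h, Subgroup.mem_zpowers h⟩)
      refine Subgroup.mem_center_iff.2 fun g => Prod.ext (by simp) (Subtype.ext ?_)
      show (g.2 : H) * h = h * g.2
      obtain ⟨i, hi⟩ := Subgroup.mem_zpowers_iff.1 g.2.2
      rw [← hi]
      exact (Commute.zpow_self h i).eq
    obtain ⟨t, ht⟩ := exists_scalar_of_mem_center π hcen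
    refine ⟨t, ?_, ?_, ?_⟩
    · set g₀ : Heis bF × Z := (1, ⟨h, Subgroup.mem_zpowers h⟩) with hg₀
      have h1 := character_smul_of_scalar π (scalar_pow π ht (orderOf g₀)) 1
      rw [pow_orderOf_eq_one, one_mul, hπc] at h1
      refine IsIntegral.of_pow (orderOf_pos g₀) ?_
      rw [mul_right_cancel₀ (IsIrr.apply_one_ne_zero μ.2) (h1.symm.trans (one_mul _).symm)]
      exact isIntegral_one
    · have h2 := character_smul_of_scalar π ht 1
      rwa [mul_one, hπc, ← CharDegree.cast_irrDegree] at h2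
    · rw [← card_fix]
      exact heis_degree_sq hAF (MonoidHom.inl _ _) ((proj bF).comp (MonoidHom.fst _ _)) (fun _ => rfl)
        hgen μ hc1 hcp (hall μ hμ ▸ ha μ)
  choose! t ht hte hdq using hval
  have hne : (∑ μ, if mult μ = 0 then 0 else (mult μ : ℂ) * t μ) ^ 2 = f h ^ 2 / (p : ℂ) ^ fdim ρ h := by
    have hp0 : ((p : ℂ) ^ fdim ρ h) ≠ 0 := pow_ne_zero _ (Nat.cast_ne_zero.2 hp.out.ne_zero)
    rw [eq_div_iff hp0]
    by_cases hall0 : ∀ μ, mult μ = 0
    · exfalso
      have := hmult' 1
      rw [map_one, Finset.sum_eq_zero fun μ _ => by rw [hall0, Nat.cast_zero, zero_mul]] at this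
      exact IsIrr.apply_one_ne_zero hχ this
    push Not at hall0
    obtain ⟨μ₀, hμ₀⟩ := hall0
    set r := Cfsg.charDegree (μ₀ : Heis bF × Z → ℂ)
    have hr : ((r : ℂ)) ^ 2 = (p : ℂ) ^ fdim ρ h := by exact_mod_cast hdq μ₀ hμ₀
    have hfh : f h = ∑ μ, (if mult μ = 0 then 0 else (mult μ : ℂ) * t μ) * r := by
      rw [show f h = χ (Φ (1, ⟨h, Subgroup.mem_zpowers h⟩)) by
        show χ ((SemidirectProduct.inr (φ := heisAct hb)) h) = χ ((SemidirectProduct.inl (φ := heisAct hb)) (j 1) * (SemidirectProduct.inr (φ := heisAct hb)) h)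
        rw [map_one, map_one, one_mul], hmult']
      refine Finset.sum_congr rfl fun μ _ => ?_
      split_ifs with hμ
      · rw [hμ, Nat.cast_zero, zero_mul, zero_mul]
      · have hrr : Cfsg.charDegree (μ : Heis bF × Z → ℂ) = r :=
          Nat.pow_left_injective two_ne_zero ((hdq μ hμ).trans (hdq μ₀ hμ₀).symm)
        rw [hte μ hμ, hrr]; ring
    rw [hfh, ← Finset.sum_mul, mul_pow, hr]
  rw [← hne]
  refine IsIntegral.pow (IsIntegral.sum _ fun μ _ => ?_) 2
  split_ifs with hμ
  · exact isIntegral_zero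
  · exact (by exact_mod_cast isIntegral_algebraMap (R := ℤ) (A := ℂ) (x := (mult μ : ℤ)) :
      IsIntegral ℤ (mult μ : ℂ)).mul (ht μ hμ)

end Weil

end CfsgLib.KgvReal
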