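import Cfsg.Agent.Lib.CharDegree.KgvReal.Gauss
import Cfsg.Agent.Lib.CharDegree.KgvReal.Heisenberg
import Cfsg.Agent.S4966
import Mathlib.LinearAlgebra.Matrix.BilinearForm

/-!
# The weight function of a self-dual coprime module

The product of a Weil character and a Gauss sum function, divided by the sizes of the fixed spaces.
-/

set_option autoImplicit false

namespace CfsgLib.KgvReal

open CfsgLib.Char
open scoped ComplexConjugate
open Module

variable {p : ℕ} [hp : Fact p.Prime] {H : Type*} [Group H] [Fintype H]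
  {U : Type*} [AddCommGroup U] [Module (ZMod p) U] [Finite U]
  {ρ : Representation (ZMod p) H U}

/-- The restriction to an invariant subspace. -/
noncomputable def subRep (ρ : Representation (ZMod p) H U) (W : Submodule (ZMod p) U)
    (hW : ∀ g : H, ∀ w ∈ W, ρ g w ∈ W) : Representation (ZMod p) H W where
  toFun g := (ρ g).restrict (hW g)
  map_one' := LinearMap.ext fun w => Subtype.ext (by simp)
  map_mul' g k := LinearMap.ext fun w => Subtype.ext (by simp)

omit [Fintype H] [Finite U] in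
theorem mem_fix_subRep {W : Submodule (ZMod p) U} {hW : ∀ g : H, ∀ w ∈ W, ρ g w ∈ W} {h : H} {w : W} :
    w ∈ fix (subRep ρ W hW) h ↔ ρ h w = w := by
  rw [mem_fix, Subtype.ext_iff]
  rfl

omit [Fintype H] in
theorem card_fix_compl {U₁ W : Submodule (ZMod p) U} (hc : IsCompl U₁ W)
    (h₁ : ∀ g : H, ∀ u ∈ U₁, ρ g u ∈ U₁) (h₂ : ∀ g : H, ∀ w ∈ W, ρ g w ∈ W) (h : H) :
    Nat.card (fix ρ h) = Nat.card (fix (subRep ρ U₁ h₁) h) * Nat.card (fix (subRep ρ W h₂) h) := by
  rw [← Nat.card_prod]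
  symm
  refine Nat.card_congr (Equiv.ofBijective (fun x => ⟨(x.1.1 : U) + (x.2.1 : U), mem_fix.2 (by
    rw [map_add, mem_fix_subRep.1 x.1.2, mem_fix_subRep.1 x.2.2])⟩) ⟨fun x y he => ?_, fun z => ?_⟩)
  · have e : ((x.1.1, x.2.1) : U₁ × W) = (y.1.1, y.2.1) :=
      (Submodule.prodEquivOfIsCompl U₁ W hc).injective (by simpa using congrArg Subtype.val he)
    simp only [Prod.ext_iff] at e
    exact Prod.ext (Subtype.ext e.1) (Subtype.ext e.2)
  · obtain ⟨⟨a, c⟩, hac⟩ := (Submodule.prodEquivOfIsCompl U₁ W hc).surjective z.1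
    replace hac : (a : U) + c = z.1 := hac
    have hz : ρ h (z : U) = z := mem_fix.1 z.2
    rw [← hac, map_add] at hz
    have e : ((⟨ρ h a, h₁ h a a.2⟩, ⟨ρ h c, h₂ h c c.2⟩) : U₁ × W) = (a, c) :=
      (Submodule.prodEquivOfIsCompl U₁ W hc).injective hz
    simp only [Prod.ext_iff, Subtype.ext_iff] at e
    exact ⟨(⟨a, mem_fix_subRep.2 e.1⟩, ⟨c, mem_fix_subRep.2 e.2⟩), Subtype.ext hac⟩

theorem isIntegral_conj {x : ℂ} (hx : IsIntegral ℤ x) : IsIntegral ℤ (conj x) :=
  hx.map (starRingEnd ℂ).toIntAlgHom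

/-- A normalised weight function. -/
theorem exists_theta (hcop : ¬ p ∣ Nat.card H) (hfaith : ∀ h : H, (∀ u, ρ h u = u) → h = 1)
    (e : H → ℕ) (K : ℕ) (hfix : ∀ h, Nat.card (fix ρ h) = p ^ e h * K)
    (hπ : Vir fun h => (p : ℂ) ^ e h) {M : ℕ} [NeZero M] {f : H → ℂ} (hf : Vir f)
    (hfm : ∀ h, f h ∈ cyc M) (hfn : ∀ h, f h * conj (f h) = (p : ℂ) ^ e h)
    (hfu : ∀ h, IsIntegral ℤ (f h ^ 2 / (p : ℂ) ^ e h)) :
    ∃ (θ : H → ℂ) (w : H → ℕ), Vir θ ∧ θ 1 = 1 ∧ (∀ h, θ h ∈ cyc M) ∧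
      (∀ h, θ h * conj (θ h) = (w h : ℂ)) ∧ (∀ h, h ≠ 1 → CharAction.CongMod p (θ h ^ 2) 0) ∧
      ∀ h, w h * Nat.card (fix ρ h) = Nat.card U := by
  have hp0 : (p : ℂ) ≠ 0 := Nat.cast_ne_zero.2 hp.out.ne_zero
  have h1top : Nat.card (fix ρ 1) = Nat.card U :=
    Nat.card_congr (Equiv.subtypeUnivEquiv fun u => mem_fix.2 (by simp))
  have hK : 0 < K := by
    have h := hfix 1
    rw [h1top] at h
    exact Nat.pos_of_ne_zero fun h0 => (Nat.card_pos (α := U)).ne' (by rw [h, h0, mul_zero])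
  have hle : ∀ h, e h ≤ e 1 := fun h => by
    have h2 : Nat.card (fix ρ h) ≤ Nat.card U := Finite.card_subtype_le _
    rw [← h1top, hfix, hfix] at h2
    exact (Nat.pow_le_pow_iff_right hp.out.one_lt).1 (Nat.le_of_mul_le_mul_right h2 hK)
  have hlt : ∀ h, h ≠ 1 → e h < e 1 := fun h hh => by
    obtain ⟨u, hu⟩ := not_forall.1 (mt (hfaith h) hh)
    have h2 : Nat.card (fix ρ h) < Nat.card U :=
      Finite.card_subtype_lt (x := u) fun hu' => hu (mem_fix.1 hu')
    rw [← h1top, hfix, hfix] at h2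
    exact (Nat.pow_lt_pow_iff_right hp.out.one_lt).1 (Nat.lt_of_mul_lt_mul_right h2)
  set a : ℂ := conj (f 1) with ha
  have hai : IsIntegral ℤ a := isIntegral_conj (hf.apply_isIntegral 1)
  set θ : H → ℂ := fun h => a * f h / (p : ℂ) ^ e h with hθ
  set u : H → ℂ := fun h => f h ^ 2 / (p : ℂ) ^ e h with hu
  have hpow : ∀ h, (p : ℂ) ^ e 1 = (p : ℂ) ^ (e 1 - e h) * (p : ℂ) ^ e h := fun h => by
    rw [← pow_add, Nat.sub_add_cancel (hle h)]
  have hsq : ∀ h, θ h ^ 2 = (p : ℂ) ^ (e 1 - e h) * (conj (u 1) * u h) := fun h => by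
    simp only [hθ, hu, ha, map_div₀, map_pow, Complex.conj_natCast]
    rw [hpow h]
    field_simp
  have hint : ∀ h, IsIntegral ℤ (θ h) := fun h => IsIntegral.of_pow (n := 2) two_pos (by
    rw [hsq]
    refine (IsIntegral.pow ?_ _).mul ((isIntegral_conj (hfu 1)).mul (hfu h))
    exact_mod_cast isIntegral_algebraMap (R := ℤ) (A := ℂ) (x := (p : ℤ)))
  refine ⟨θ, fun h => p ^ (e 1 - e h), vir_div hp.out hcop hf hle hπ hai hint, ?_, fun h => ?_, fun h => ?_,
    fun h hh => ?_, fun h => ?_⟩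
  · simp only [hθ, ha]
    rw [mul_comm, hfn, div_self (pow_ne_zero _ hp0)]
  · exact div_mem (mul_mem (conj_mem (hfm 1)) (hfm h)) (pow_mem (natCast_mem _ p) _)
  · simp only [hθ, ha, map_div₀, map_mul, map_pow, Complex.conj_natCast, Complex.conj_conj, Nat.cast_pow]
    have h1 := hfn h
    have h2 := hfn 1
    rw [hpow h] at h2
    field_simp
    linear_combination f 1 * conj (f 1) * h1 + (p : ℂ) ^ e h * h2
  · obtain ⟨k, hk⟩ : ∃ k, e 1 - e h = k + 1 := ⟨e 1 - e h - 1, by have := hlt h hh; omega⟩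
    rw [hsq, hk, pow_succ', mul_assoc]
    refine CharAction.CongMod.prime_mul ((IsIntegral.pow ?_ k).mul ((isIntegral_conj (hfu 1)).mul (hfu h)))
    exact_mod_cast isIntegral_algebraMap (R := ℤ) (A := ℂ) (x := (p : ℤ))
  · rw [hfix, ← h1top, hfix, ← mul_assoc, ← pow_add, Nat.sub_add_cancel (hle h)]

/-- An alternating invariant form is the antisymmetrization of an invariant form. -/
theorem exists_half (hcop : ¬ p ∣ Nat.card H) (A : LinearMap.BilinForm (ZMod p) U) (hA : ∀ x, A x x = 0)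
    (hinv : ∀ (g : H) (x y : U), A (ρ g x) (ρ g y) = A x y) :
    ∃ b : LinearMap.BilinForm (ZMod p) U, (∀ (g : H) (x y : U), b (ρ g x) (ρ g y) = b x y) ∧
      ∀ x y, b x y - b y x = A x y := by
  classical
  let e := Module.finBasis (ZMod p) U
  let b₀ : LinearMap.BilinForm (ZMod p) U :=
    Matrix.toBilin e (Matrix.of fun i j => if i < j then A (e i) (e j) else 0)
  have h0 : b₀ - b₀.flip = A := LinearMap.BilinForm.ext_basis e fun i j => by
    have hij : ∀ i j, b₀ (e i) (e j) = if i < j then A (e i) (e j) else 0 := fun i j => by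
      rw [← LinearMap.BilinForm.toMatrix_apply e]
      simp only [b₀, LinearMap.BilinForm.toMatrix_toBilin, Matrix.of_apply]
    simp only [LinearMap.sub_apply, LinearMap.BilinForm.flip_apply, hij]
    rcases lt_trichotomy i j with h | h | h
    · simp [h, h.le.not_gt]
    · subst h; simp [hA]
    · have hxy := hA (e i + e j)
      simp only [map_add, LinearMap.add_apply, hA] at hxy
      simp only [if_neg h.le.not_gt, if_pos h]
      linear_combination -hxy
  have h0' : ∀ x y, b₀ x y - b₀ y x = A x y := fun x y => by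
    rw [← h0, LinearMap.sub_apply, LinearMap.sub_apply, LinearMap.BilinForm.flip_apply]
  have hn : (Nat.card H : ZMod p) ≠ 0 := fun h => hcop ((ZMod.natCast_eq_zero_iff _ p).1 h)
  refine ⟨(Nat.card H : ZMod p)⁻¹ • ∑ g : H, b₀.compl₁₂ (ρ g) (ρ g), fun k x y => ?_, fun x y => ?_⟩
  · simp only [LinearMap.smul_apply, LinearMap.sum_apply, LinearMap.compl₁₂_apply]
    congr 1
    refine Fintype.sum_equiv (Equiv.mulRight k) _ _ fun g => ?_
    simp only [Equiv.coe_mulRight, map_mul, Module.End.mul_apply]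
  · simp only [LinearMap.smul_apply, LinearMap.sum_apply, LinearMap.compl₁₂_apply, smul_eq_mul, ← mul_sub,
      ← Finset.sum_sub_distrib, h0', hinv, Finset.sum_const, Finset.card_univ, nsmul_eq_mul,
      ← Nat.card_eq_fintype_card]
    rw [inv_mul_cancel_left₀ hn]

/-- The weight function of a self-dual faithful coprime module. -/
theorem exists_weight (hcop : ¬ p ∣ Nat.card H) (hfaith : ∀ h : H, (∀ u, ρ h u = u) → h = 1)
    (B : LinearMap.BilinForm (ZMod p) U) (hinv : ∀ (g : H) (x y : U), B (ρ g x) (ρ g y) = B x y)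
    (hnd : ∀ x, (∀ y, B x y = 0) → x = 0) {M : ℕ} [NeZero M]
    (hM : p * Nat.card U * Nat.card H ∣ M) :
    ∃ (θ : H → ℂ) (w : H → ℕ), Vir θ ∧ θ 1 = 1 ∧ (∀ h, θ h ∈ cyc M) ∧
      (∀ h, θ h * conj (θ h) = (w h : ℂ)) ∧ (∀ h, h ≠ 1 → CharAction.CongMod p (θ h ^ 2) 0) ∧
      ∀ h, w h * Nat.card (fix ρ h) = Nat.card U := by
  have hBnd : B.Nondegenerate := by
    refine ⟨hnd, fun y hy => ?_⟩
    have hinj : Function.Injective B := fun x x' hxx => sub_eq_zero.1 (hnd _ fun z => by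
      rw [map_sub, LinearMap.sub_apply, hxx, sub_self])
    have hsur := (LinearMap.injective_iff_surjective_of_finrank_eq_finrank
      (Subspace.dual_finrank_eq (K := ZMod p) (V := U)).symm).1 hinj
    refine (Module.forall_dual_apply_eq_zero_iff (ZMod p) y).1 fun φ => ?_
    obtain ⟨x, rfl⟩ := hsur φ
    exact hy x
  obtain ⟨U₁, W, hc, h₁, h₂, ⟨A, hA0, hAi, hAn⟩, ⟨S, hS0, hSi, hSn⟩, htr⟩ :=
    Cfsg.Agent.S4966.result p hcop ρ B hBnd hinv
  have hcardU : Nat.card U₁ * Nat.card W = Nat.card U := by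
    rw [← Nat.card_prod]; exact Nat.card_congr (Submodule.prodEquivOfIsCompl U₁ W hc).toEquiv
  set A₁ : LinearMap.BilinForm (ZMod p) U₁ := A.compl₁₂ U₁.subtype U₁.subtype with hA₁
  obtain ⟨b, hb, hbA⟩ := exists_half (ρ := subRep ρ U₁ h₁) hcop A₁ (fun x => hA0 x.1)
    (fun g x y => hAi g x x.2 y y.2)
  have hM₁ : p * Nat.card U₁ * Nat.card H ∣ M :=
    (Nat.mul_dvd_mul_right (Nat.mul_dvd_mul_left p (Dvd.intro _ hcardU)) _).trans hM
  obtain ⟨f, hf, hfm, hfn, hfu⟩ := exists_weil (ρ := subRep ρ U₁ h₁) hcop hb (fun x hx => by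
    refine Subtype.ext (hAn x x.2 fun y hy => ?_)
    have h := hx ⟨y, hy⟩
    rw [← neg_sub, neg_eq_zero, hbA] at h
    exact h) hM₁
  by_cases hp2 : p = 2
  · refine exists_theta hcop hfaith (fun h => fdim (subRep ρ U₁ h₁) h) (Nat.card W) (fun h => ?_)
      vir_card_fix hf hfm hfn hfu
    rw [card_fix_compl hc h₁ h₂, card_fix]
    congr 1
    exact Nat.card_congr (Equiv.subtypeUnivEquiv fun w => mem_fix_subRep.2 (htr hp2 h w w.2))
  · obtain ⟨g, hg, hgm, hgn, hgu⟩ := exists_gauss (ρ := subRep ρ W h₂) hcop hp2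
      (S.compl₁₂ W.subtype W.subtype) (fun x y => hS0 x y) (fun g x y => hSi g x x.2 y y.2)
      (fun x hx => Subtype.ext (hSn x x.2 fun y hy => hx ⟨y, hy⟩))
      (M := M) (((dvd_mul_right p _).mul_right _).trans hM)
    refine exists_theta hcop hfaith (fun h => fdim (subRep ρ U₁ h₁) h + fdim (subRep ρ W h₂) h) 1
      (fun h => by rw [card_fix_compl hc h₁ h₂, card_fix, card_fix, pow_add, mul_one]) ?_ (hf.mul hg)
      (fun h => mul_mem (hfm h) (hgm h)) (fun h => ?_) (fun h => ?_)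
    · simp only [pow_add]
      exact vir_card_fix.mul vir_card_fix
    · rw [map_mul, pow_add, ← hfn, ← hgn]; ring
    · rw [mul_pow, pow_add, mul_div_mul_comm]
      exact (hfu h).mul (hgu h)

/-- The same, for a commutative group with a module structure on its additive copy. -/
theorem exists_weight_group_aux {K : Type*} [CommGroup K] [Finite K] [Module (ZMod p) (Additive K)]
    (hcop : ¬ p ∣ Nat.card H) (φ : H →* MulAut K) (hfaith : ∀ h, (∀ x, φ h x = x) → h = 1)
    (β : K → K → ZMod p) (hl : ∀ x x' y, β (x * x') y = β x y + β x' y)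
    (hr : ∀ x y y', β x (y * y') = β x y + β x y') (hinv : ∀ h x y, β (φ h x) (φ h y) = β x y)
    (hnd : ∀ x, (∀ y, β x y = 0) → x = 1) {M : ℕ} [NeZero M] (hM : p * Nat.card K * Nat.card H ∣ M) :
    ∃ (θ : H → ℂ) (w : H → ℕ), Vir θ ∧ θ 1 = 1 ∧ (∀ h, θ h ∈ cyc M) ∧
      (∀ h, θ h * conj (θ h) = (w h : ℂ)) ∧ (∀ h, h ≠ 1 → CharAction.CongMod p (θ h ^ 2) 0) ∧
      ∀ h, w h * Nat.card {x : K // φ h x = x} = Nat.card K := by
  let f : H → Module.End (ZMod p) (Additive K) := fun h =>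
    (MonoidHom.toAdditive (φ h).toMonoidHom).toZModLinearMap p
  have hf : ∀ h x, f h x = Additive.ofMul (φ h (Additive.toMul x)) := fun h x => by
    simp only [f, AddMonoidHom.coe_toZModLinearMap]; rfl
  have f1 : f 1 = 1 := LinearMap.ext fun x => by
    rw [hf, Module.End.one_apply]
    show Additive.ofMul (φ 1 (Additive.toMul x)) = x
    rw [map_one]; rfl
  have fm : ∀ g k, f (g * k) = f g * f k := fun g k => LinearMap.ext fun x => by
    rw [Module.End.mul_apply, hf, hf, hf]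
    show Additive.ofMul (φ (g * k) (Additive.toMul x)) = Additive.ofMul (φ g (φ k (Additive.toMul x)))
    rw [map_mul]; rfl
  let π : Representation (ZMod p) H (Additive K) := { toFun := f, map_one' := f1, map_mul' := fm }
  let B : LinearMap.BilinForm (ZMod p) (Additive K) :=
    (AddMonoidHom.mk' (fun x : Additive K => (AddMonoidHom.mk' (fun y : Additive K =>
        β (Additive.toMul x) (Additive.toMul y)) (fun y y' => hr _ _ _)).toZModLinearMap p)
      (fun x x' => LinearMap.ext fun y => by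
        simp only [AddMonoidHom.coe_toZModLinearMap, AddMonoidHom.mk'_apply, LinearMap.add_apply]
        exact hl (Additive.toMul x) (Additive.toMul x') (Additive.toMul y))).toZModLinearMap p
  have hM' : p * Nat.card (Additive K) * Nat.card H ∣ M := by rwa [Nat.card_congr Additive.toMul]
  have hπ : ∀ h x, π h x = Additive.ofMul (φ h (Additive.toMul x)) := hf
  have hB : ∀ x y, B x y = β (Additive.toMul x) (Additive.toMul y) := fun x y => by
    simp only [B, AddMonoidHom.coe_toZModLinearMap, AddMonoidHom.mk'_apply]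
  obtain ⟨θ, w, h1, h2, h3, h4, h5, h6⟩ := exists_weight (ρ := π) hcop
    (fun h hh => hfaith h fun x => congrArg Additive.toMul ((hπ h _).symm.trans (hh (Additive.ofMul x))))
    B (fun g x y => by rw [hB, hB, hπ, hπ]; exact hinv g _ _)
    (fun x hx => congrArg Additive.ofMul (hnd _ fun y => (hB x (Additive.ofMul y)).symm.trans (hx _)))
    hM'
  refine ⟨θ, w, h1, h2, h3, h4, h5, fun h => ?_⟩
  have e : {x : K // φ h x = x} ≃ fix π h :=
    Additive.ofMul.subtypeEquiv fun x => ⟨fun hx => mem_fix.2 ((hπ h _).trans (congrArg Additive.ofMul hx)),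
      fun hx => congrArg Additive.toMul ((hπ h _).symm.trans (mem_fix.1 hx))⟩
  rw [Nat.card_congr e, h6, Nat.card_congr Additive.toMul]


/-- The same, for a commutative group of exponent `p`. -/
theorem exists_weight_group {K : Type*} [CommGroup K] [Finite K] (hexp : ∀ x : K, x ^ p = 1)
    (hcop : ¬ p ∣ Nat.card H) (φ : H →* MulAut K) (hfaith : ∀ h, (∀ x, φ h x = x) → h = 1)
    (β : K → K → ZMod p) (hl : ∀ x x' y, β (x * x') y = β x y + β x' y)
    (hr : ∀ x y y', β x (y * y') = β x y + β x y') (hinv : ∀ h x y, β (φ h x) (φ h y) = β x y)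
    (hnd : ∀ x, (∀ y, β x y = 0) → x = 1) {M : ℕ} [NeZero M] (hM : p * Nat.card K * Nat.card H ∣ M) :
    ∃ (θ : H → ℂ) (w : H → ℕ), Vir θ ∧ θ 1 = 1 ∧ (∀ h, θ h ∈ cyc M) ∧
      (∀ h, θ h * conj (θ h) = (w h : ℂ)) ∧ (∀ h, h ≠ 1 → CharAction.CongMod p (θ h ^ 2) 0) ∧
      ∀ h, w h * Nat.card {x : K // φ h x = x} = Nat.card K := by
  exact @exists_weight_group_aux p _ H _ _ K _ _
    (AddCommGroup.zmodModule fun x => congrArg Additive.ofMul (hexp (Additive.toMul x)))
    hcop φ hfaith β hl hr hinv hnd M _ hM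

end CfsgLib.KgvReal
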