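import Cfsg.Agent.Lib.CharAction.Galois
import Cfsg.Agent.Lib.CharDegree.Basic
import Cfsg.Agent.Lib.CharDegree.Restriction

/-!
# Virtual characters with algebraic integer coefficients, and cyclotomic conjugates
-/

set_option autoImplicit false

namespace CfsgLib.KgvReal

open Cfsg CfsgLib.Char
open scoped ComplexConjugate
open Module

section Vir

variable {G : Type*} [Group G] [Fintype G]

/-- A combination of irreducible characters with algebraic integer coefficients. -/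
def Vir (f : G → ℂ) : Prop :=
  IsClassFunction G f ∧ ∀ φ : IrrCharacter G, IsIntegral ℤ (classInner f (φ : G → ℂ))

theorem vir_char {f : G → ℂ} (h : IsCharacter G f) : Vir f := by
  refine ⟨IsChar.isClassFunction h, fun φ => ?_⟩
  obtain ⟨n, hn⟩ := IsChar.classInner_eq_natCast h (IsIrr.isCharacter φ.2)
  rw [hn]
  exact_mod_cast isIntegral_algebraMap (R := ℤ) (A := ℂ) (x := (n : ℤ))

theorem Vir.add {f g : G → ℂ} (hf : Vir f) (hg : Vir g) : Vir (fun x => f x + g x) := by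
  refine ⟨fun a b => by simp only [hf.1 a b, hg.1 a b], fun φ => ?_⟩
  rw [show (fun x => f x + g x) = f + g from rfl, classInner_add_left]
  exact (hf.2 φ).add (hg.2 φ)

theorem Vir.smul {c : ℂ} (hc : IsIntegral ℤ c) {f : G → ℂ} (hf : Vir f) : Vir (fun x => c * f x) := by
  refine ⟨fun a b => by simp only [hf.1 a b], fun φ => ?_⟩
  rw [show (fun x => c * f x) = c • f from rfl, classInner_smul_left]
  exact hc.mul (hf.2 φ)

theorem vir_const {c : ℂ} (hc : IsIntegral ℤ c) : Vir (fun _ : G => c) := by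
  have h := (vir_char (isCharacter_one (G := G))).smul hc
  simpa using h

theorem Vir.sum {ι : Type*} (s : Finset ι) {f : ι → G → ℂ} (hf : ∀ i ∈ s, Vir (f i)) :
    Vir (fun x => ∑ i ∈ s, f i x) := by
  classical
  induction s using Finset.induction with
  | empty => simpa using vir_const (G := G) isIntegral_zero
  | insert a s ha ih =>
    simp only [Finset.sum_insert ha]
    exact (hf a (Finset.mem_insert_self a s)).add (ih fun i hi => hf i (Finset.mem_insert_of_mem hi))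

theorem Vir.mul {f g : G → ℂ} (hf : Vir f) (hg : Vir g) : Vir (fun x => f x * g x) := by
  classical
  have := Fintype.ofFinite (IrrCharacter G)
  have e : (fun x => f x * g x) = fun x => ∑ χ : IrrCharacter G, ∑ ψ : IrrCharacter G,
      (classInner f (χ : G → ℂ) * classInner g (ψ : G → ℂ)) * ((χ : G → ℂ) x * (ψ : G → ℂ) x) := by
    funext x
    rw [classFunction_apply_eq_sum hf.1 x, classFunction_apply_eq_sum hg.1 x, Finset.sum_mul_sum]
    exact Finset.sum_congr rfl fun χ _ => Finset.sum_congr rfl fun ψ _ => by ring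
  rw [e]
  exact Vir.sum _ fun χ _ => Vir.sum _ fun ψ _ => Vir.smul ((hf.2 χ).mul (hg.2 ψ))
    (vir_char (IsChar.mul (IsIrr.isCharacter χ.2) (IsIrr.isCharacter ψ.2)))

theorem Vir.apply_isIntegral {f : G → ℂ} (hf : Vir f) (x : G) : IsIntegral ℤ (f x) := by
  have := Fintype.ofFinite (IrrCharacter G)
  rw [classFunction_apply_eq_sum hf.1 x]
  exact IsIntegral.sum _ fun χ _ => (hf.2 χ).mul (IsChar.isIntegral (IsIrr.isCharacter χ.2) x)

/-- Dividing by a virtual character with values powers of `p`, in a group of order prime to `p`. -/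
theorem vir_div {p : ℕ} (hp : p.Prime) (hcop : ¬ p ∣ Nat.card G) {f : G → ℂ} (hf : Vir f)
    {e : G → ℕ} {d : ℕ} (hd : ∀ g, e g ≤ d) (hπ : Vir fun g => (p : ℂ) ^ e g) {a : ℂ}
    (ha : IsIntegral ℤ a) (hint : ∀ g, IsIntegral ℤ (a * f g / (p : ℂ) ^ e g)) :
    Vir fun g => a * f g / (p : ℂ) ^ e g := by
  have hp0 : (p : ℂ) ≠ 0 := Nat.cast_ne_zero.2 hp.ne_zero
  have hpi : ∀ n : ℕ, IsIntegral ℤ ((p : ℂ) ^ n) := fun n =>
    IsIntegral.pow (by exact_mod_cast isIntegral_algebraMap (R := ℤ) (A := ℂ) (x := (p : ℤ))) n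
  have key : ∀ n : ℕ, ∃ (R : G → ℂ) (m : ℕ), Vir R ∧ ∀ g,
      ∏ j ∈ Finset.range n, ((p : ℂ) ^ e g - (p : ℂ) ^ j) = (p : ℂ) ^ e g * R g + (-1) ^ n * (p : ℂ) ^ m := by
    intro n
    induction n with
    | zero => exact ⟨fun _ => 0, 0, vir_const isIntegral_zero, fun g => by simp⟩
    | succ n ih =>
      obtain ⟨R, m, hR, hRe⟩ := ih
      refine ⟨fun g => (p : ℂ) ^ e g * R g + (-(p : ℂ) ^ n * R g + (-1) ^ n * (p : ℂ) ^ m), m + n,
        (hπ.mul hR).add ((hR.smul (hpi n).neg).add (vir_const ?_)), fun g => ?_⟩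
      · exact (IsIntegral.pow isIntegral_one.neg n).mul (hpi m)
      · rw [Finset.prod_range_succ, hRe]
        ring
  obtain ⟨R, m, hR, hRe⟩ := key (d + 1)
  have hz : ∀ g, (p : ℂ) ^ e g * R g = -((-1) ^ (d + 1) * (p : ℂ) ^ m) := fun g => by
    have h := hRe g
    rw [Finset.prod_eq_zero (Finset.mem_range.2 (Nat.lt_succ_of_le (hd g))) (sub_self _)] at h
    linear_combination -h
  set θ := fun g => a * f g / (p : ℂ) ^ e g with hθ
  have hcl : IsClassFunction G θ := fun x y => by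
    show a * f (y * x * y⁻¹) / (p : ℂ) ^ e (y * x * y⁻¹) = a * f x / (p : ℂ) ^ e x
    have h1 : (p : ℂ) ^ e (y * x * y⁻¹) = (p : ℂ) ^ e x := hπ.1 x y
    rw [hf.1 x y, h1]
  refine ⟨hcl, fun φ => ?_⟩
  set c := classInner θ (φ : G → ℂ) with hc
  have h1 : IsIntegral ℤ ((Nat.card G : ℂ) * c) := by
    rw [hc, classInner, ← mul_assoc, mul_inv_cancel₀ (Nat.cast_ne_zero.2 Nat.card_pos.ne'), one_mul]
    refine IsIntegral.sum _ fun g _ => (hint g).mul ?_
    rw [← IsChar.map_inv (IsIrr.isCharacter φ.2)]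
    exact IsChar.isIntegral (IsIrr.isCharacter φ.2) _
  have hV : Vir fun g => -((-1 : ℂ) ^ (d + 1)) * a * (f g * R g) :=
    (hf.mul hR).smul ((IsIntegral.pow isIntegral_one.neg _).neg.mul ha)
  have h2 : IsIntegral ℤ (((p ^ m : ℕ) : ℂ) * c) := by
    rw [hc, ← classInner_smul_left]
    convert hV.2 φ using 2
    funext g
    simp only [Pi.smul_apply, smul_eq_mul, hθ, Nat.cast_pow]
    have h3 := hz g
    have h4 : (p : ℂ) ^ e g ≠ 0 := pow_ne_zero _ hp0
    have h5 : ((-1 : ℂ) ^ (d + 1)) * ((-1 : ℂ) ^ (d + 1)) = 1 := by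
      rw [← mul_pow]; norm_num
    field_simp
    linear_combination (-1 : ℂ) ^ (d + 1) * a * f g * h3 - a * f g * (p : ℂ) ^ m * h5
  have hb := Nat.gcd_eq_gcd_ab (Nat.card G) (p ^ m)
  rw [show Nat.gcd (Nat.card G) (p ^ m) = 1 from
    ((hp.coprime_iff_not_dvd.2 hcop).symm.pow_right m)] at hb
  have hb' : (1 : ℂ) = (Nat.card G : ℂ) * (Nat.gcdA (Nat.card G) (p ^ m) : ℂ) +
      ((p ^ m : ℕ) : ℂ) * (Nat.gcdB (Nat.card G) (p ^ m) : ℂ) := by exact_mod_cast hb
  have hcE : c = (Nat.gcdA (Nat.card G) (p ^ m) : ℂ) * ((Nat.card G : ℂ) * c) +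
      (Nat.gcdB (Nat.card G) (p ^ m) : ℂ) * (((p ^ m : ℕ) : ℂ) * c) := by
    linear_combination c * hb'
  rw [hcE]
  exact ((isIntegral_algebraMap (R := ℤ) (A := ℂ) (x := Nat.gcdA (Nat.card G) (p ^ m))).mul h1).add
    ((isIntegral_algebraMap (R := ℤ) (A := ℂ) (x := Nat.gcdB (Nat.card G) (p ^ m))).mul h2)

end Vir

section Field

/-- A primitive root of unity. -/
noncomputable def zeta (M : ℕ) : ℂ := Complex.exp (2 * Real.pi * Complex.I / M)

/-- The cyclotomic field. -/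
noncomputable def cyc (M : ℕ) : IntermediateField ℚ ℂ := IntermediateField.adjoin ℚ {zeta M}

variable {M : ℕ} [NeZero M]

theorem isPrimitiveRoot_zeta : IsPrimitiveRoot (zeta M) M := Complex.isPrimitiveRoot_exp M (NeZero.ne M)

instance finiteDimensional_cyc : FiniteDimensional ℚ (cyc M) :=
  IntermediateField.adjoin.finiteDimensional (IsIntegral.of_pow (Nat.pos_of_ne_zero (NeZero.ne M))
    (by rw [isPrimitiveRoot_zeta.pow_eq_one]; exact isIntegral_one))

theorem root_mem {x : ℂ} (hx : x ^ M = 1) : x ∈ cyc M := by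
  obtain ⟨i, -, rfl⟩ := isPrimitiveRoot_zeta.eq_pow_of_pow_eq_one hx
  exact pow_mem (IntermediateField.mem_adjoin_simple_self ℚ _) i

theorem char_mem {G : Type*} [Group G] [Finite G] {χ : G → ℂ} (hχ : IsCharacter G χ)
    (hd : Nat.card G ∣ M) (g : G) : χ g ∈ cyc M := by
  obtain ⟨m, ρ, rfl⟩ := hχ
  obtain ⟨ε, hε, -, hpow, -⟩ := exists_eigenvalues ρ g
  have h := hpow 1
  simp only [pow_one] at h
  rw [h]
  refine sum_mem fun i _ => root_mem ?_
  obtain ⟨c, hc⟩ := (orderOf_dvd_natCard g).trans hd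
  rw [hc, pow_mul, hε i, one_pow]

theorem conj_mem {x : ℂ} (hx : x ∈ cyc M) : conj x ∈ cyc M := by
  induction hx using IntermediateField.adjoin_induction with
  | mem x hx =>
    rw [Set.mem_singleton_iff] at hx
    subst hx
    exact root_mem (by rw [← map_pow, isPrimitiveRoot_zeta.pow_eq_one, map_one])
  | algebraMap x => simp [(cyc M).algebraMap_mem x]
  | add x y _ _ hx hy => rw [map_add]; exact add_mem hx hy
  | inv x _ hx => rw [map_inv₀]; exact inv_mem hx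
  | mul x y _ _ hx hy => rw [map_mul]; exact mul_mem hx hy

variable (σ : cyc M →ₐ[ℚ] ℂ)

theorem exists_exp : ∃ k : ℕ, k.Coprime M ∧
    σ ⟨zeta M, IntermediateField.mem_adjoin_simple_self ℚ _⟩ = zeta M ^ k := by
  have hz : IsPrimitiveRoot (⟨zeta M, IntermediateField.mem_adjoin_simple_self ℚ _⟩ : cyc M) M :=
    IsPrimitiveRoot.of_map_of_injective (f := (cyc M).val) isPrimitiveRoot_zeta (cyc M).val.injective
  have h := hz.map_of_injective σ.injective
  obtain ⟨i, -, hi⟩ := isPrimitiveRoot_zeta.eq_pow_of_pow_eq_one h.pow_eq_one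
  refine ⟨i, ?_, hi.symm⟩
  rw [← hi] at h
  exact (isPrimitiveRoot_zeta.pow_iff_coprime (Nat.pos_of_ne_zero (NeZero.ne M)) i).1 h

theorem apply_char {k : ℕ} (hk : σ ⟨zeta M, IntermediateField.mem_adjoin_simple_self ℚ _⟩ = zeta M ^ k)
    {G : Type*} [Group G] [Finite G] {χ : G → ℂ} (hχ : IsCharacter G χ) (hd : Nat.card G ∣ M) (g : G) :
    σ ⟨χ g, char_mem hχ hd g⟩ = χ (g ^ k) := by
  obtain ⟨m, ρ, rfl⟩ := id hχ
  obtain ⟨ε, hε, -, hpow, -⟩ := exists_eigenvalues ρ g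
  have hj : ∀ i, ∃ j : ℕ, zeta M ^ j = ε i := fun i => by
    obtain ⟨c, hc⟩ := (orderOf_dvd_natCard g).trans hd
    obtain ⟨j, -, hj⟩ := isPrimitiveRoot_zeta.eq_pow_of_pow_eq_one (ξ := ε i)
      (show ε i ^ M = 1 by rw [hc, pow_mul, hε i, one_pow])
    exact ⟨j, hj⟩
  choose j hj using hj
  have e : (⟨ρ.character g, char_mem hχ hd g⟩ : cyc M) =
      ∑ i, (⟨zeta M, IntermediateField.mem_adjoin_simple_self ℚ _⟩ : cyc M) ^ j i := by
    refine Subtype.ext ?_
    have h := hpow 1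
    simp only [pow_one] at h
    simp [h, hj]
  rw [e, map_sum, hpow]
  exact Finset.sum_congr rfl fun i _ => by rw [map_pow, hk, ← pow_mul, ← hj i, ← pow_mul, mul_comm]

theorem apply_conj {x : ℂ} (hx : x ∈ cyc M) : σ ⟨conj x, conj_mem hx⟩ = conj (σ ⟨x, hx⟩) := by
  induction hx using IntermediateField.adjoin_induction with
  | mem x hx =>
    rw [Set.mem_singleton_iff] at hx
    subst hx
    obtain ⟨k, -, hk⟩ := exists_exp σ
    have hn : ‖zeta M‖ = 1 :=
      Complex.norm_eq_one_of_pow_eq_one isPrimitiveRoot_zeta.pow_eq_one (NeZero.ne M)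
    have e : (⟨conj (zeta M), conj_mem (IntermediateField.mem_adjoin_simple_self ℚ _)⟩ : cyc M) =
        (⟨zeta M, IntermediateField.mem_adjoin_simple_self ℚ _⟩ : cyc M)⁻¹ := by
      refine Subtype.ext ?_
      show conj (zeta M) = (zeta M)⁻¹
      rw [Complex.inv_eq_conj hn]
    rw [e, map_inv₀, hk, Complex.inv_eq_conj (by rw [norm_pow, hn, one_pow])]
  | algebraMap x =>
    have e : (⟨conj (algebraMap ℚ ℂ x), conj_mem ((cyc M).algebraMap_mem x)⟩ : cyc M) =
        algebraMap ℚ (cyc M) x := Subtype.ext (by simp)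
    rw [e, AlgHom.commutes]
    rw [show (⟨algebraMap ℚ ℂ x, (cyc M).algebraMap_mem x⟩ : cyc M) = algebraMap ℚ (cyc M) x from
      Subtype.ext (by simp), AlgHom.commutes]
    simp
  | add x y hx hy ihx ihy =>
    have e : (⟨conj (x + y), conj_mem (add_mem hx hy)⟩ : cyc M) =
        ⟨conj x, conj_mem hx⟩ + ⟨conj y, conj_mem hy⟩ := Subtype.ext (map_add _ x y)
    rw [e, map_add, ihx, ihy, show (⟨x + y, add_mem hx hy⟩ : cyc M) = ⟨x, hx⟩ + ⟨y, hy⟩ from rfl,
      map_add σ, map_add]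
  | inv x hx ihx =>
    have e : (⟨conj x⁻¹, conj_mem (inv_mem hx)⟩ : cyc M) = (⟨conj x, conj_mem hx⟩ : cyc M)⁻¹ :=
      Subtype.ext (map_inv₀ _ x)
    rw [e, map_inv₀, ihx, show (⟨x⁻¹, inv_mem hx⟩ : cyc M) = (⟨x, hx⟩ : cyc M)⁻¹ from rfl,
      map_inv₀ σ, map_inv₀]
  | mul x y hx hy ihx ihy =>
    have e : (⟨conj (x * y), conj_mem (mul_mem hx hy)⟩ : cyc M) =
        ⟨conj x, conj_mem hx⟩ * ⟨conj y, conj_mem hy⟩ := Subtype.ext (map_mul _ x y)
    rw [e, map_mul, ihx, ihy, show (⟨x * y, mul_mem hx hy⟩ : cyc M) = ⟨x, hx⟩ * ⟨y, hy⟩ from rfl,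
      map_mul σ, map_mul]

omit σ in
/-- The conjugates of a nonzero integer have squared norms at least one on average. -/
theorem card_le_sum_norm_sq {x : ℂ} (hx : x ∈ cyc M) (hi : IsIntegral ℤ x) (h0 : x ≠ 0) :
    (Fintype.card (cyc M →ₐ[ℚ] ℂ) : ℝ) ≤ ∑ τ : cyc M →ₐ[ℚ] ℂ, ‖τ ⟨x, hx⟩‖ ^ 2 := by
  set y : cyc M := ⟨x, hx⟩
  have hy0 : y ≠ 0 := fun h => h0 (congrArg Subtype.val h)
  have hyi : IsIntegral ℤ y :=
    (isIntegral_algHom_iff ((cyc M).val.restrictScalars ℤ) (cyc M).val.injective).1 hi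
  obtain ⟨c, hc⟩ := IsIntegrallyClosed.isIntegral_iff.mp (Algebra.isIntegral_norm ℚ hyi)
  have hprod := Algebra.norm_eq_prod_embeddings ℚ ℂ y
  have hc0 : c ≠ 0 := fun h => by
    rw [h, map_zero, eq_comm, Algebra.norm_eq_zero_iff] at hc
    exact hy0 hc
  have h1 : (1 : ℝ) ≤ ∏ τ : cyc M →ₐ[ℚ] ℂ, ‖τ y‖ ^ 2 := by
    rw [Finset.prod_pow]
    refine one_le_pow₀ ?_
    rw [← norm_prod, ← hprod, ← hc]
    simp only [eq_intCast, map_intCast, Complex.norm_intCast]
    exact_mod_cast Int.one_le_abs hc0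
  have h2 := CharAction.card_le_sum_of_one_le_prod (Finset.univ : Finset (cyc M →ₐ[ℚ] ℂ))
    (fun τ => ‖τ y‖ ^ 2) (fun τ _ => pow_pos (norm_pos_iff.2 ((map_ne_zero τ).2 hy0)) 2) h1
  simpa using h2

end Field

end CfsgLib.KgvReal
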